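import Groth.Agent.PnEmb.Ample
import Groth.Agent.AmpleLib.Relative2

/-!
# Very ample powers of ample modules over an arbitrary base
-/

set_option autoImplicit false
set_option linter.unusedSectionVars false
set_option backward.isDefEq.respectTransparency.types false
set_option maxHeartbeats 1000000

universe u

open AlgebraicGeometry CategoryTheory CategoryTheory.Limits TopologicalSpace Opposite
open Groth.Agent.Coherent Groth.Agent.PicLib Groth.Agent.AmpleLib Groth.Agent.PnEmb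

namespace Groth.Agent.MorProj

variable {X S : Scheme.{u}} {L M : X.Modules}

/-- `O(1)` is ample on projective space over the integers. -/
theorem isAmple_twistProjSpace (n : ℕ) : CohB1.IsAmple (Twist.twistProjSpace n (ULift.{u} ℤ) 1) :=
  TwistLib.G.isAmple_twist_one (𝒜 := CohB1.polyGrading n (ULift.{u} ℤ))
    (Finset.univ.image MvPolynomial.X) (by
      intro g hg
      obtain ⟨j, -, rfl⟩ := Finset.mem_image.1 hg
      exact MvPolynomial.isHomogeneous_X _ j)
    (by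
      rw [Finset.coe_image, Finset.coe_univ, Set.image_univ]
      refine le_antisymm (ProjLib.irrelevant_le_span_X n _) (Ideal.span_le.2 ?_)
      rintro _ ⟨j, rfl⟩
      exact HomogeneousIdeal.mem_irrelevant_of_mem (CohB1.polyGrading n _) Nat.one_pos
        (MvPolynomial.isHomogeneous_X _ j))

/-- Sections whose quotients generate, over affine opens of the base, the functions of affine non-vanishing loci give
very ampleness over any base. -/
theorem isRelVeryAmplePn_of_sections' (q : X ⟶ S) {L : X.Modules} (hL : PicF.IsInvertible L) {n : ℕ}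
    (σ : Fin (n + 1) → Γ(L, ⊤)) (J : Set (Fin (n + 1))) (hcov : ∀ x : X, ∃ j ∈ J, x ∈ glocus L (σ j))
    (haff : ∀ j ∈ J, IsAffineOpen (glocus L (σ j)))
    (W : Fin (n + 1) → S.Opens) (hW : ∀ j ∈ J, IsAffineOpen (W j))
    (hle : ∀ j ∈ J, glocus L (σ j) ≤ q ⁻¹ᵁ W j)
    (hring : ∀ j, ∀ hj : j ∈ J, Subring.closure (Set.range (q.appLE (W j) (glocus L (σ j)) (hle j hj)) ∪
      Set.range fun k => (isGen_glocus (σ j)).coef le_rfl (resM L le_top (σ k))) = ⊤) :
    RelAmple.IsRelVeryAmplePn q L := by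
  obtain ⟨r, hr, τ, hτ⟩ := UPLib.exists_hom_projSpace n (specULiftZIsTerminal.from X) hL σ fun x => by
    obtain ⟨j, -, hj⟩ := hcov x
    exact ⟨j, hj⟩
  let i : X ⟶ pullback (CohB1.ProjSpace.toSpec n (ULift.{u} ℤ)) (specULiftZIsTerminal.from S) :=
    pullback.lift r q (specULiftZIsTerminal.hom_ext _ _)
  have hir : i ≫ pullback.fst _ _ = r := pullback.lift_fst _ _ _
  have hiq : i ≫ pullback.snd _ _ = q := pullback.lift_snd _ _ _
  refine ⟨n, i, ?_, hiq, ⟨τ.symm ≪≫ (Scheme.Modules.pullbackCongr hir.symm).app _ ≪≫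
    ((Scheme.Modules.pullbackComp i (pullback.fst _ _)).app _).symm⟩⟩
  let V : Fin (n + 1) → (pullback (CohB1.ProjSpace.toSpec n (ULift.{u} ℤ)) (specULiftZIsTerminal.from S)).Opens :=
    fun j => pullback.fst (CohB1.ProjSpace.toSpec n (ULift.{u} ℤ)) (specULiftZIsTerminal.from S) ⁻¹ᵁ
      chartOpen n (ULift.{u} ℤ) j ⊓
        pullback.snd (CohB1.ProjSpace.toSpec n (ULift.{u} ℤ)) (specULiftZIsTerminal.from S) ⁻¹ᵁ W j
  have hpre : ∀ j ∈ J, i ⁻¹ᵁ V j = glocus L (σ j) := fun j hj => by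
    simp only [V, Scheme.Hom.preimage_inf, ← Scheme.Hom.comp_preimage, hir, hiq, preimage_chartOpen r τ hτ j]
    exact inf_eq_left.2 (hle j hj)
  refine isImmersion_of_charts i (fun j : J => V j)
    (fun j => isAffineOpen_fst_inf_snd _ _ (isAffineOpen_top _) (isAffineOpen_chartOpen j.1) (hW j j.2) le_top le_top)
    (fun j => hpre j j.2 ▸ haff j j.2) ?_ ?_
  · rintro ⟨j, hj⟩
    have key : ∀ U : X.Opens, U = glocus L (σ j) → ∀ hU : U ≤ i ⁻¹ᵁ V j,
        (⊤ : Subring Γ(X, U)) ≤ (i.appLE (V j) U hU).hom.range := by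
      rintro U rfl hU
      rw [← hring j hj, Subring.closure_le]
      rintro c (⟨a, rfl⟩ | ⟨k, rfl⟩)
      · refine ⟨(pullback.snd (CohB1.ProjSpace.toSpec n (ULift.{u} ℤ)) (specULiftZIsTerminal.from S)).appLE (W j)
          (V j) inf_le_right a, ?_⟩
        show ((pullback.snd (CohB1.ProjSpace.toSpec n (ULift.{u} ℤ)) (specULiftZIsTerminal.from S)).appLE (W j) (V j)
          inf_le_right ≫ i.appLE (V j) _ hU) a = q.appLE (W j) _ (hle j hj) a
        rw [Scheme.Hom.appLE_comp_appLE]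
        simp only [hiq]
      · obtain ⟨c, hc⟩ := exists_app_eq_coef r τ hτ j k _ (preimage_chartOpen r τ hτ j).ge
        refine ⟨(pullback.fst (CohB1.ProjSpace.toSpec n (ULift.{u} ℤ)) (specULiftZIsTerminal.from S)).appLE
          (chartOpen n _ j) (V j) inf_le_left c, ((isGen_glocus (σ j)).coef_eq le_rfl ?_).symm⟩
        rw [resM_self]
        refine Eq.trans ?_ hc
        congr 1
        show ((pullback.fst (CohB1.ProjSpace.toSpec n (ULift.{u} ℤ)) (specULiftZIsTerminal.from S)).appLE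
          (chartOpen n _ j) (V j) inf_le_left ≫ i.appLE (V j) _ hU) c =
            r.appLE (chartOpen n _ j) _ (preimage_chartOpen r τ hτ j).ge c
        rw [Scheme.Hom.appLE_comp_appLE]
        simp only [hir]
    intro c
    obtain ⟨d, hd⟩ := key _ (hpre j hj) le_rfl (Subring.mem_top c)
    refine ⟨d, ?_⟩
    rw [← hd, Scheme.Hom.app_eq_appLE]
  · intro x
    obtain ⟨j, hj, hx⟩ := hcov x
    exact ⟨⟨j, hj⟩, (hpre j hj).ge hx⟩

/-- Functions on an affine open, finitely generated over an affine open of the base. -/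
theorem exists_ring_gens' (q : X ⟶ S) [LocallyOfFiniteType q] {U : X.Opens} (hU : IsAffineOpen U)
    {W : S.Opens} (hW : IsAffineOpen W) (hle : U ≤ q ⁻¹ᵁ W) :
    ∃ (ν : ℕ) (f : Fin ν → Γ(X, U)),
      Subring.closure (Set.range (q.appLE W U hle) ∪ Set.range f) = ⊤ := by
  have h := q.finiteType_appLE hW hU hle
  letI := (q.appLE W U hle).hom.toAlgebra
  obtain ⟨s, hs⟩ := (h : Algebra.FiniteType Γ(S, W) Γ(X, U)).out
  let e := Fintype.equivFin {x // x ∈ s}
  refine ⟨_, fun i => (e.symm i).1, ?_⟩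
  have hr : Set.range (fun i => (e.symm i).1) = (s : Set Γ(X, U)) := by
    ext x
    exact ⟨by rintro ⟨i, rfl⟩; exact (e.symm i).2, fun hx => ⟨e ⟨x, hx⟩, by simp⟩⟩
  rw [hr]
  have h2 := Algebra.adjoin_eq_ring_closure (R := Γ(S, W)) (s : Set Γ(X, U))
  rw [hs] at h2
  exact h2.symm.trans (Algebra.top_toSubring (R := Γ(S, W)) (A := Γ(X, U)))

/-- High twists by an ample module are very ample, over any base. -/
theorem eventually_isRelVeryAmplePn' (q : X ⟶ S) [LocallyOfFiniteType q] (hL : CohB1.IsAmple L)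
    (hM : PicF.IsInvertible M) :
    ∃ n₀ : ℕ, ∀ n : ℕ, n₀ ≤ n → RelAmple.IsRelVeryAmplePn q (CohB1.tensorMod (CohB1.tensorPow L n) M) := by
  classical
  obtain ⟨hLi, hc, haff⟩ := isAmple_iff_affGlocus.1 hL
  have := quasiSeparatedSpace_of_affGlocus hLi haff
  have := hc
  have key : ∀ x : X, ∃ (W : X.Opens) (U : S.Opens) (hle : W ≤ q ⁻¹ᵁ U) (ν : ℕ) (f : Fin ν → Γ(X, W)) (N : ℕ),
      x ∈ W ∧ IsAffineOpen W ∧ IsAffineOpen U ∧
      Subring.closure (Set.range (q.appLE U W hle) ∪ Set.range f) = ⊤ ∧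
      ∀ n, N ≤ n → ∃ (v : Γ(CohB1.tensorMod (CohB1.tensorPow L n) M, ⊤))
        (u : Fin ν → Γ(CohB1.tensorMod (CohB1.tensorPow L n) M, ⊤)),
        glocus _ v = W ∧ ∀ i, resM _ (le_top : W ≤ ⊤) (u i) = f i • resM _ (le_top : W ≤ ⊤) v := by
    intro x
    obtain ⟨V₁, hxV₁, g, hg⟩ := exists_isGen hLi x
    obtain ⟨V₂, hxV₂, g', hg'⟩ := exists_isGen hM x
    obtain ⟨U, hU, hxU, -⟩ := exists_isAffineOpen_mem_and_subset (x := q x) (U := ⊤) trivial
    obtain ⟨m, hm, b, hxb, hbV, hb⟩ := affGlocus_of_mem (x := x) (U := V₁ ⊓ V₂ ⊓ q ⁻¹ᵁ U) hL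
      ⟨⟨hxV₁, hxV₂⟩, hxU⟩
    let A := glocus _ b
    have hbU : A ≤ q ⁻¹ᵁ U := hbV.trans inf_le_right
    have hb1 : A ≤ V₁ := hbV.trans (inf_le_left.trans inf_le_left)
    have hb2 : A ≤ V₂ := hbV.trans (inf_le_left.trans inf_le_right)
    obtain ⟨ν, f, hf⟩ := exists_ring_gens' q hb hU hbU
    have hP : ∀ j, PicF.IsInvertible (CohB1.tensorMod (CohB1.tensorPow L j) M) := fun j =>
      isInvertible_tensorMod (isInvertible_tensorPow hLi j) hM
    have hLm := isInvertible_tensorPow hLi m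
    let w : ∀ j, Γ(CohB1.tensorMod (CohB1.tensorPow L j) M, A) := fun j =>
      tmul (powSec (resM L hb1 g) j) (resM M hb2 g')
    have hw : ∀ j, IsGen _ A (w j) := fun j => isGen_tmul (isGen_powSec (hg.restrict _) j) (hg'.restrict _)
    let a : Option (Fin ν) → Γ(X, A) := fun o => o.elim 1 f
    have hext : ∀ (j : Fin m) (o : Option (Fin ν)), ∃ (k : ℕ)
        (t : Γ(CohB1.tensorMod (CohB1.tensorMod (CohB1.tensorPow L j) M) (CohB1.tensorPow (CohB1.tensorPow L m) k), ⊤)),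
        resM _ (le_top : A ≤ ⊤) t = tmul (a o • w j) (powSec (resM (CohB1.tensorPow L m) le_top b) k) := fun j o => by
      have := AmpleLib.isQCoh_of_isInvertible (hP j)
      exact exists_extend (CohB1.tensorMod (CohB1.tensorPow L j) M) b hLm (a o • w j)
    choose k₀ t₀ ht₀ using hext
    let K := Finset.univ.sup fun p : Fin m × Option (Fin ν) => k₀ p.1 p.2
    refine ⟨A, U, hbU, ν, f, m * (K + 2), hxb, hb, hU, hf, fun n hn => ?_⟩
    let j : Fin m := ⟨n % m, Nat.mod_lt _ hm⟩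
    obtain ⟨k, hk⟩ : ∃ k, n / m = k + 1 := Nat.exists_eq_add_one.2 ((Nat.le_div_iff_mul_le hm).2 (by nlinarith))
    have hKk : K ≤ k := by
      have : K + 2 ≤ n / m := (Nat.le_div_iff_mul_le hm).2 (by rw [mul_comm]; exact hn)
      omega
    have hlift : ∀ (k' : ℕ), K ≤ k' → ∀ o, ∃ t, resM _ (le_top : A ≤ ⊤) t =
        tmul (a o • w j) (powSec (resM (CohB1.tensorPow L m) le_top b) k') := fun k' hk' o =>
      exists_lift_pow hLm (hP j) b _ ((Finset.le_sup (f := fun p : Fin m × Option (Fin ν) => k₀ p.1 p.2)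
        (Finset.mem_univ (j, o))).trans hk') (t₀ j o) (ht₀ j o)
    obtain ⟨φ⟩ := nonempty_twist_iso hLi hM (n % m) m (k + 1) n (by rw [← hk]; exact Nat.mod_add_div n m)
    obtain ⟨α, hα⟩ := exists_assocIso (hP j) (isInvertible_tensorPow hLm k) hLm
    obtain ⟨t', ht'⟩ := hlift k hKk none
    choose t ht using fun i => hlift (k + 1) (by omega) (some i)
    let h := φ.hom.app A (tmul (w j) (powSec (resM (CohB1.tensorPow L m) le_top b) (k + 1)))
    have h1 : resM _ (le_top : A ≤ ⊤) (α.hom.app ⊤ (tmul t' b)) =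
        tmul (w j) (powSec (resM (CohB1.tensorPow L m) le_top b) (k + 1)) := by
      rw [← app_resM, resM_tmul, ht']
      simp only [a, Option.elim, one_smul]
      exact hα _ _ _ _
    have hv : resM _ (le_top : A ≤ ⊤) (φ.hom.app ⊤ (α.hom.app ⊤ (tmul t' b))) = h :=
      (app_resM φ.hom _ _).symm.trans (congrArg (φ.hom.app A) h1)
    refine ⟨φ.hom.app ⊤ (α.hom.app ⊤ (tmul t' b)), fun i => φ.hom.app ⊤ (t i), ?_, fun i => ?_⟩
    · refine (glocus_map_iso φ _).trans ((glocus_map_iso α _).trans ?_)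
      rw [glocus_tmul (isInvertible_tensorMod (hP j) (isInvertible_tensorPow hLm k)) hLm, inf_eq_right,
        le_glocus_iff, ht']
      simp only [a, Option.elim, one_smul]
      exact isGen_tmul (hw j) (isGen_powSec (isGen_glocus b) k)
    · rw [hv, ← app_resM, ht i]
      simp only [a, Option.elim]
      rw [tmul_smul_left]
      exact Scheme.Modules.Hom.app_smul _ _ _
  choose W U hle ν f N hxW hW hU hgen hN using key
  obtain ⟨T, hT⟩ := isCompact_univ.elim_finite_subcover (fun x : X => (W x : Set X)) (fun x => (W x).2)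
    fun x _ => Set.mem_iUnion.2 ⟨x, hxW x⟩
  refine ⟨T.sup N, fun n hn => ?_⟩
  choose v u hv hu using fun x : {x // x ∈ T} => hN x.1 n ((Finset.le_sup x.2).trans hn)
  let I := Option ((x : {x // x ∈ T}) × Option (Fin (ν x.1)))
  obtain ⟨N', hN'⟩ : ∃ N', Fintype.card I = N' + 1 := Nat.exists_eq_add_one.2 Fintype.card_pos
  let e : I ≃ Fin (N' + 1) := (Fintype.equivFin I).trans (finCongr hN')
  let sec : I → Γ(CohB1.tensorMod (CohB1.tensorPow L n) M, ⊤) := fun o => o.elim 0 fun p => p.2.elim (v p.1) (u p.1)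
  let Wb : I → S.Opens := fun o => o.elim ⊥ fun p => U p.1.1
  have hle' : ∀ j ∈ Set.range (fun x : {x // x ∈ T} => e (some ⟨x, none⟩)),
      glocus _ (sec (e.symm j)) ≤ q ⁻¹ᵁ Wb (e.symm j) := by
    rintro _ ⟨x, rfl⟩
    simpa [sec, Wb, hv] using hle x.1
  refine isRelVeryAmplePn_of_sections' q (isInvertible_tensorMod (isInvertible_tensorPow hLi n) hM)
    (fun i => sec (e.symm i)) (Set.range fun x : {x // x ∈ T} => e (some ⟨x, none⟩)) (fun y => ?_) ?_
    (fun j => Wb (e.symm j)) ?_ hle' ?_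
  · obtain ⟨x, hxT, hyx⟩ := Set.mem_iUnion₂.1 (hT (Set.mem_univ y))
    exact ⟨_, ⟨⟨x, hxT⟩, rfl⟩, by simpa [sec, hv] using hyx⟩
  · rintro _ ⟨x, rfl⟩
    simpa [sec, hv] using hW x.1
  · rintro _ ⟨x, rfl⟩
    simpa [Wb] using hU x.1
  · rintro _ ⟨x, rfl⟩
    have hs : sec (e.symm (e (some ⟨x, none⟩))) = v x := by simp [sec]
    have hb : Wb (e.symm (e (some ⟨x, none⟩))) = U x.1 := by simp [Wb]
    have key : ∀ (z : Γ(CohB1.tensorMod (CohB1.tensorPow L n) M, ⊤)) (A : X.Opens) (B : S.Opens),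
        z = v x → A = W x.1 → B = U x.1 →
        ∀ (hAB : A ≤ q ⁻¹ᵁ B) (hz : IsGen _ A (resM _ le_top z)), Subring.closure (Set.range (q.appLE B A hAB) ∪
          Set.range fun i => hz.coef le_rfl (resM _ le_top (sec (e.symm i)))) = ⊤ := by
      rintro z A B rfl rfl rfl hAB hz
      rw [eq_top_iff, ← hgen x.1]
      refine Subring.closure_mono (Set.union_subset_union_right _ ?_)
      rintro _ ⟨i, rfl⟩
      refine ⟨e (some ⟨x, some i⟩), hz.coef_eq _ ?_⟩
      rw [resM_self]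
      simpa [sec] using (hu x i).symm
    exact key _ _ _ hs ((congrArg (glocus _) hs).trans (hv x)) hb _ _

/-- High powers of an ample module are very ample, over any base. -/
theorem eventually_isRelVeryAmplePn_pow (q : X ⟶ S) [LocallyOfFiniteType q] (hL : CohB1.IsAmple L) :
    ∃ n₀ : ℕ, ∀ n : ℕ, n₀ ≤ n → RelAmple.IsRelVeryAmplePn q (CohB1.tensorPow L n) := by
  obtain ⟨n₀, h⟩ := eventually_isRelVeryAmplePn' q hL (isInvertible_structureModule (X := X))
  exact ⟨n₀, fun n hn => isRelVeryAmplePn_of_iso (tensorComm _ _ ≪≫ unitTensorIso _) (h n hn)⟩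

/-- A module very ample over an open of the base is ample over the affine opens inside it. -/
theorem isAmple_pullback_of_isRelVeryAmplePn (f : X ⟶ S) [QuasiCompact f] {V : S.Opens}
    {N : (f ⁻¹ᵁ V).toScheme.Modules} (h : RelAmple.IsRelVeryAmplePn (f ∣_ V) N) {W : S.Opens} (hW : IsAffineOpen W)
    (hWV : W ≤ V) :
    CohB1.IsAmple ((Scheme.Modules.pullback (X.homOfLE (U := f ⁻¹ᵁ W) (V := f ⁻¹ᵁ V) (fun z hz => hWV hz))).obj N) := by
  obtain ⟨n, i, hi, hiq, ⟨e⟩⟩ := h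
  haveI := hi
  let j := X.homOfLE (U := f ⁻¹ᵁ W) (V := f ⁻¹ᵁ V) (fun z hz => hWV hz)
  let W' : V.toScheme.Opens := V.ι ⁻¹ᵁ W
  have hW' : IsAffineOpen W' := hW.preimage_of_isOpenImmersion _ ((Scheme.Opens.opensRange_ι _).symm ▸ hWV)
  let Q : (CohB1.ProjSpaceOver n V.toScheme).Opens :=
    pullback.snd (CohB1.ProjSpace.toSpec n (ULift.{u} ℤ)) (specULiftZIsTerminal.from V.toScheme) ⁻¹ᵁ W'
  haveI : IsAffineHom
      (Q.ι ≫ pullback.fst (CohB1.ProjSpace.toSpec n (ULift.{u} ℤ)) (specULiftZIsTerminal.from V.toScheme)) :=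
    ⟨fun A hA => by
      rw [← Q.ι.isAffineOpen_iff_of_isOpenImmersion]
      have he : Q.ι ''ᵁ ((Q.ι ≫ pullback.fst (CohB1.ProjSpace.toSpec n (ULift.{u} ℤ))
          (specULiftZIsTerminal.from V.toScheme)) ⁻¹ᵁ A) =
          pullback.fst (CohB1.ProjSpace.toSpec n (ULift.{u} ℤ)) (specULiftZIsTerminal.from V.toScheme) ⁻¹ᵁ A ⊓ Q := by
        rw [Scheme.Hom.comp_preimage, Scheme.Hom.image_preimage_eq_opensRange_inf, Scheme.Opens.opensRange_ι, inf_comm]
        rfl
      rw [he]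
      exact isAffineOpen_fst_inf_snd (CohB1.ProjSpace.toSpec n (ULift.{u} ℤ))
        (specULiftZIsTerminal.from V.toScheme) (isAffineOpen_top _) hA hW' le_top le_top⟩
  have hQ := isAmple_pullback_of_isAffineHom
    (Q.ι ≫ pullback.fst (CohB1.ProjSpace.toSpec n (ULift.{u} ℤ)) (specULiftZIsTerminal.from V.toScheme))
    (isAmple_twistProjSpace.{u} n)
  rw [← isAmple_pullback_comp_iff] at hQ
  haveI : CompactSpace (f ⁻¹ᵁ W : Scheme.{u}) := isCompact_iff_compactSpace.1 (isCompact_preimage_affine hW)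
  have hA := isAmple_pullback_of_range_subset (L := Twist.twistOver n V.toScheme 1) (j ≫ i)
    (i.isEmbedding.comp j.isOpenEmbedding.isEmbedding) Q (by
      rintro _ ⟨z, rfl⟩
      show (i ≫ pullback.snd (CohB1.ProjSpace.toSpec n (ULift.{u} ℤ)) (specULiftZIsTerminal.from V.toScheme)) (j z) ∈ W'
      rw [hiq]
      show V.ι ((f ∣_ V) (j z)) ∈ W
      rw [← Scheme.Hom.comp_apply (f ∣_ V), morphismRestrict_ι, ← Scheme.Hom.comp_apply j,
        Scheme.homOfLE_ι_assoc]
      exact z.2) hQ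
  rw [← isAmple_pullback_comp_iff] at hA
  exact isAmple_of_iso ((Scheme.Modules.pullback j).mapIso e.symm) hA

/-- Relative ampleness is very ampleness of powers, locally on the base. -/
theorem isRelAmple_iff_locally_veryAmplePn (f : X ⟶ S) [LocallyOfFiniteType f] [QuasiCompact f]
    (hL : PicF.IsInvertible L) :
    RelAmple.IsRelAmple f L ↔
      ∃ (ι : Type u) (V : ι → S.Opens), (⨆ j, V j) = ⊤ ∧
        ∀ j, ∃ d : ℕ, 0 < d ∧
          RelAmple.IsRelVeryAmplePn (f ∣_ V j) ((CohB1.tensorPow L d).restrict (f ⁻¹ᵁ V j).ι) := by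
  constructor
  · intro h
    rw [AmpleLib.isRelAmple_iff] at h
    refine ⟨S.affineOpens, fun V => V.1, top_le_iff.1 fun x _ => ?_, fun V => ?_⟩
    · obtain ⟨W, hW, hxW, -⟩ := exists_isAffineOpen_mem_and_subset (x := x) (U := (⊤ : S.Opens)) trivial
      exact Opens.mem_iSup.2 ⟨⟨W, hW⟩, hxW⟩
    · haveI : LocallyOfFiniteType (f ∣_ V.1) := IsZariskiLocalAtTarget.restrict ‹_› _
      obtain ⟨n₀, hn⟩ := eventually_isRelVeryAmplePn_pow (f ∣_ V.1) (h.2 V)
      refine ⟨n₀ + 1, Nat.succ_pos _, ?_⟩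
      obtain ⟨e, -⟩ := exists_pullPowIso (f ⁻¹ᵁ V.1).ι hL (n₀ + 1)
      exact isRelVeryAmplePn_of_iso (e.symm ≪≫ (restrictIsoPullback _ _).symm) (hn _ (Nat.le_succ _))
  · rintro ⟨ι, V, hV, h⟩
    refine isRelAmple_of_affine_cover f hL fun y => ?_
    obtain ⟨i, hi⟩ := Opens.mem_iSup.1 (hV.ge (trivial : y ∈ (⊤ : S.Opens)))
    obtain ⟨W, hW, hyW, hWV⟩ := exists_isAffineOpen_mem_and_subset (x := y) (U := V i) hi
    obtain ⟨d, hd, hd'⟩ := h i
    refine ⟨⟨W, hW⟩, hyW, ?_⟩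
    have hA := isAmple_pullback_of_isRelVeryAmplePn f hd' hW hWV
    let j := X.homOfLE (U := f ⁻¹ᵁ W) (V := f ⁻¹ᵁ V i) (fun z hz => hWV hz)
    have hA' : CohB1.IsAmple ((Scheme.Modules.pullback j).obj
        ((Scheme.Modules.pullback (f ⁻¹ᵁ V i).ι).obj (CohB1.tensorPow L d))) :=
      isAmple_of_iso ((Scheme.Modules.pullback j).mapIso (restrictIsoPullback _ _)) hA
    rw [isAmple_pullback_comp_iff] at hA'
    have hA'' := isAmple_pullback_congr (X.homOfLE_ι _) hA'
    obtain ⟨e, -⟩ := exists_pullPowIso (f ⁻¹ᵁ W).ι hL d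
    exact (isAmple_pow_iff (PicLoc.isInvertible_pullback _ hL) d hd).1 (isAmple_of_iso e hA'')

/-- For an invertible module, ampleness says the loci of sections of positive powers form a basis. -/
theorem isAmple_iff_isBasis [CompactSpace X] (hL : PicF.IsInvertible L) :
    CohB1.IsAmple L ↔ Opens.IsBasis
      {U : X.Opens | ∃ (n : ℕ) (s : Coh.structureModule X ⟶ CohB1.tensorPow L (n + 1)),
        U = CohB1.genLocus _ s} := by
  constructor
  · intro h
    rw [Opens.isBasis_iff_nbhd]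
    intro U x hx
    obtain ⟨m, hm, b, hxb, hbU, -⟩ := affGlocus_of_mem h hx
    obtain ⟨n, rfl⟩ : ∃ n, m = n + 1 := ⟨m - 1, by omega⟩
    exact ⟨_, ⟨n, unitDesc _ b, rfl⟩, hxb, hbU⟩
  · intro h
    refine ⟨hL, inferInstance, fun x => ?_⟩
    obtain ⟨U, hU, hxU, -⟩ := exists_isAffineOpen_mem_and_subset (x := x) (U := (⊤ : X.Opens)) trivial
    obtain ⟨_, ⟨n, s, rfl⟩, hx, hsU⟩ := Opens.isBasis_iff_nbhd.1 h hxU
    refine ⟨n, s, hx, ?_⟩
    rw [genLocus_eq_glocus] at hsU ⊢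
    rw [← inf_eq_left.2 hsU]
    exact isAffineOpen_glocus_inf (isInvertible_tensorPow hL _) _ hU

end Groth.Agent.MorProj
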