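import Groth.Agent.FlatMorGeom.FormalLift
import Groth.Agent.Flatn12.PullbackSections
import Groth.Agent.EGA43.InjFibre.Scheme
import Groth.Agent.CAlgH.GRingMaximal
import Mathlib

/-!
# Locally projective quasi-coherent modules and locality of G-schemes
-/

universe u

open CategoryTheory CategoryTheory.Limits AlgebraicGeometry Opposite TopologicalSpace TensorProduct

namespace Groth.Agent.MorProj

set_option backward.isDefEq.respectTransparency false

/-- Projectivity transported along a semilinear equivalence. -/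
theorem projective_of_ringEquiv {R S M N : Type u} [CommRing R] [CommRing S] [AddCommGroup M] [AddCommGroup N]
    [Module R M] [Module S N] (σ : R ≃+* S) (e : M ≃+ N) (he : ∀ r m, e (r • m) = σ r • e m)
    [Module.Projective R M] : Module.Projective S N := by
  classical
  letI : Algebra R S := σ.toRingHom.toAlgebra
  letI : Module R N := Module.compHom N σ.toRingHom
  haveI : IsScalarTower R S N := ⟨fun a b c => by
    show (σ a * b) • c = σ a • b • c
    rw [mul_smul]⟩
  let f : M →ₗ[R] N := { toFun := e, map_add' := e.map_add, map_smul' := he }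
  have hlin : ∀ (g : S ⊗[R] M), ∃ m, g = 1 ⊗ₜ m := fun g => by
    induction g using TensorProduct.induction_on with
    | zero => exact ⟨0, (tmul_zero _ _).symm⟩
    | tmul s m =>
      refine ⟨σ.symm s • m, ?_⟩
      rw [← smul_tmul, Algebra.smul_def, mul_one, show algebraMap R S (σ.symm s) = s from σ.apply_symm_apply s]
    | add a b ha hb =>
      obtain ⟨m, rfl⟩ := ha
      obtain ⟨n, rfl⟩ := hb
      exact ⟨m + n, (tmul_add _ _ _).symm⟩
  refine Module.Projective.of_equiv (R := S) (LinearEquiv.ofBijective (f.liftBaseChange S) ⟨?_, fun n => ?_⟩)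
  · rw [injective_iff_map_eq_zero]
    intro g hg
    obtain ⟨m, rfl⟩ := hlin g
    simp [f] at hg
    rw [hg, tmul_zero]
  · exact ⟨1 ⊗ₜ e.symm n, by simp [f]⟩

variable {X Y : Scheme.{u}}

theorem nonempty_restrict_equiv (F : X.Modules) [Coh.IsQCoh F] {U V : X.Opens} (hU : IsAffineOpen U)
    (hV : IsAffineOpen V) (e : V ≤ U) :
    letI := (X.presheaf.map (homOfLE e).op).hom.toAlgebra
    Nonempty (Γ(X, V) ⊗[Γ(X, U)] Γ(F, U) ≃ₗ[Γ(X, V)] Γ(F, V)) := by
  obtain ⟨w⟩ := Flatn12.nonempty_pullback_sections_equiv (f := 𝟙 X) (M := F) hU hV (e.trans (le_of_eq (by simp)))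
  letI := (X.presheaf.map (homOfLE e).op).hom.toAlgebra
  let i := (Scheme.Modules.pullbackId X).app F
  let j : Γ((Scheme.Modules.pullback (𝟙 X)).obj F, V) ≃ₗ[Γ(X, V)] Γ(F, V) :=
    ((SheafOfModules.evaluation (X.ringCatSheaf) (op V)).mapIso i).toLinearEquiv
  have hw : (Scheme.Hom.appLE (𝟙 X) U V (e.trans (le_of_eq (by simp)))).hom.toAlgebra =
      (X.presheaf.map (homOfLE e).op).hom.toAlgebra := by
    simp [Scheme.Hom.appLE]
  revert w
  rw [hw]
  exact fun w => ⟨w.trans j⟩

theorem projective_of_le (F : X.Modules) [Coh.IsQCoh F] {U V : X.Opens} (hU : IsAffineOpen U)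
    (hV : IsAffineOpen V) (e : V ≤ U) (h : Module.Projective Γ(X, U) Γ(F, U)) :
    Module.Projective Γ(X, V) Γ(F, V) := by
  obtain ⟨w⟩ := nonempty_restrict_equiv F hU hV e
  letI := (X.presheaf.map (homOfLE e).op).hom.toAlgebra
  exact Module.Projective.of_equiv w

/-- A basis of common basic opens. -/
theorem exists_basicOpen_family {U : X.Opens} (hU : IsAffineOpen U) (P : X.Opens → Prop)
    (hcov : ∀ x ∈ U, ∃ W : X.Opens, x ∈ W ∧ IsAffineOpen W ∧ P W)
    (hP : ∀ (W : X.Opens), IsAffineOpen W → P W → ∀ g : Γ(X, W), P (X.basicOpen g)) :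
    ∃ s : Finset Γ(X, U), Ideal.span (s : Set Γ(X, U)) = ⊤ ∧ ∀ f ∈ s, P (X.basicOpen f) := by
  classical
  let T : Set Γ(X, U) := {f | P (X.basicOpen f)}
  have hT : Ideal.span T = ⊤ := by
    refine hU.iSup_basicOpen_eq_self_iff.1 (le_antisymm (iSup_le fun f => X.basicOpen_le _) fun x hx => ?_)
    obtain ⟨W, hxW, hW, hPW⟩ := hcov x hx
    obtain ⟨f, g, hfg, hxf⟩ := exists_basicOpen_le_affine_inter hU hW x ⟨hx, hxW⟩
    exact Opens.mem_iSup.2 ⟨⟨f, show P (X.basicOpen f) from hfg ▸ hP W hW hPW g⟩, hxf⟩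
  obtain ⟨s, hs, h1⟩ := Submodule.mem_span_finite_of_mem_span ((Ideal.eq_top_iff_one _).1 hT)
  exact ⟨s, (Ideal.eq_top_iff_one _).2 h1, fun f hf => hs hf⟩

theorem projective_of_cover (F : X.Modules) [Coh.IsQCoh F]
    (hcov : ∀ x : X, ∃ W : X.Opens, x ∈ W ∧ IsAffineOpen W ∧ Module.Projective Γ(X, W) Γ(F, W))
    {U : X.Opens} (hU : IsAffineOpen U) : Module.Projective Γ(X, U) Γ(F, U) := by
  classical
  obtain ⟨s, hs, hP⟩ := exists_basicOpen_family hU (fun W => Module.Projective Γ(X, W) Γ(F, W))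
    (fun x _ => hcov x) fun W hW hPW g => projective_of_le F hW (hW.basicOpen g) (X.basicOpen_le g) hPW
  refine FlatMorGeom.projective_of_span_eq_top (κ := s) (fun f => (f : Γ(X, U))) (by simpa using hs) fun f => ?_
  have hf := hP f f.2
  obtain ⟨w⟩ := nonempty_restrict_equiv F hU (hU.basicOpen f.1) (X.basicOpen_le _)
  letI := (X.presheaf.map (homOfLE (X.basicOpen_le f.1)).op).hom.toAlgebra
  haveI : IsLocalization.Away f.1 Γ(X, X.basicOpen f.1) := hU.isLocalization_basicOpen f.1
  haveI : Module.Projective Γ(X, X.basicOpen f.1) (Γ(X, X.basicOpen f.1) ⊗[Γ(X, U)] Γ(F, U)) :=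
    Module.Projective.of_equiv w.symm
  let σ : Γ(X, X.basicOpen f.1) ≃ₐ[Γ(X, U)] Localization.Away f.1 :=
    IsLocalization.algEquiv (Submonoid.powers f.1) _ _
  refine projective_of_ringEquiv σ.toRingEquiv (TensorProduct.congr σ.toLinearEquiv (LinearEquiv.refl _ Γ(F, U))).toAddEquiv ?_
  intro r m
  induction m using TensorProduct.induction_on with
  | zero => simp
  | tmul s m =>
    show σ (r * s) ⊗ₜ[Γ(X, U)] m = σ r • (σ s ⊗ₜ[Γ(X, U)] m)
    rw [map_mul, smul_tmul', smul_eq_mul]
  | add a b ha hb => rw [smul_add, map_add, map_add, smul_add, ha, hb]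

theorem projective_pullback (f : X ⟶ Y) (G : Y.Modules) [Coh.IsQCoh G]
    (hG : ∀ V : Y.Opens, IsAffineOpen V → Module.Projective Γ(Y, V) Γ(G, V))
    {U : X.Opens} (hU : IsAffineOpen U) :
    Module.Projective Γ(X, U) Γ((Scheme.Modules.pullback f).obj G, U) := by
  haveI := EGA43.InjFibre.isQCoh_pullback f G
  refine projective_of_cover _ (fun x => ?_) hU
  obtain ⟨_, ⟨V, hV, rfl⟩, hxV, -⟩ := Y.isBasis_affineOpens.exists_subset_of_mem_open
    (Set.mem_univ (f.base x)) isOpen_univ
  obtain ⟨_, ⟨W, hW, rfl⟩, hxW, hWV⟩ := X.isBasis_affineOpens.exists_subset_of_mem_open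
    (show x ∈ ((f ⁻¹ᵁ V : X.Opens) : Set X) from hxV) (f ⁻¹ᵁ V).isOpen
  refine ⟨W, hxW, hW, ?_⟩
  obtain ⟨w⟩ := Flatn12.nonempty_pullback_sections_equiv (f := f) (M := G) hV hW hWV
  letI := (f.appLE V W hWV).hom.toAlgebra
  haveI := hG V hV
  exact Module.Projective.of_equiv w

theorem isGRing_of_cover {U : X.Opens} (hU : IsAffineOpen U)
    (hcov : ∀ x : X, ∃ W : X.Opens, x ∈ W ∧ IsAffineOpen W ∧ CAlg.IsGRing Γ(X, W)) :
    CAlg.IsGRing Γ(X, U) := by
  classical
  obtain ⟨s, hs, hP⟩ := exists_basicOpen_family hU (fun W => CAlg.IsGRing Γ(X, W)) (fun x _ => hcov x)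
    fun W hW hPW g => by
      letI := (X.presheaf.map (homOfLE (X.basicOpen_le g)).op).hom.toAlgebra
      haveI : IsLocalization.Away g Γ(X, X.basicOpen g) := hW.isLocalization_basicOpen g
      exact CAlgH.isGRing_localization (Submonoid.powers g) _ hPW
  haveI : IsNoetherianRing Γ(X, U) := isNoetherianRing_of_away s hs fun f => by
    letI := (X.presheaf.map (homOfLE (X.basicOpen_le f.1)).op).hom.toAlgebra
    haveI : IsLocalization.Away f.1 Γ(X, X.basicOpen f.1) := hU.isLocalization_basicOpen f.1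
    haveI := (hP f.1 f.2).1
    exact isNoetherianRing_of_ringEquiv Γ(X, X.basicOpen f.1)
      (IsLocalization.algEquiv (Submonoid.powers f.1) Γ(X, X.basicOpen f.1) (Localization.Away f.1)).toRingEquiv
  refine CAlgH.isGRing_of_maximals _ fun m hm => ?_
  obtain ⟨f, hfs, hfm⟩ : ∃ f ∈ s, f ∉ m := by
    by_contra! h
    exact hm.ne_top (top_le_iff.1 (hs ▸ Ideal.span_le.2 h))
  letI := (X.presheaf.map (homOfLE (X.basicOpen_le f)).op).hom.toAlgebra
  haveI : IsLocalization.Away f Γ(X, X.basicOpen f) := hU.isLocalization_basicOpen f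
  have hdisj : Disjoint (Submonoid.powers f : Set Γ(X, U)) (m : Set Γ(X, U)) := by
    rw [Set.disjoint_left]
    rintro _ ⟨n, rfl⟩ h
    exact hfm (hm.isPrime.mem_of_pow_mem n h)
  let P := m.map (algebraMap Γ(X, U) Γ(X, X.basicOpen f))
  haveI : P.IsPrime := IsLocalization.isPrime_of_isPrime_disjoint _ _ m hm.isPrime hdisj
  have hPm : P.comap (algebraMap Γ(X, U) Γ(X, X.basicOpen f)) = m :=
    IsLocalization.comap_map_of_isPrime_disjoint _ _ hm.isPrime hdisj
  haveI : IsLocalization.AtPrime (Localization.AtPrime P) m := by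
    have := IsLocalization.isLocalization_isLocalization_atPrime_isLocalization (Submonoid.powers f)
      (Localization.AtPrime P) P
    convert this <;> exact hPm.symm
  let e := IsLocalization.algEquiv m.primeCompl (Localization.AtPrime P) (Localization.AtPrime m)
  haveI := (hP f hfs).1
  haveI : IsNoetherianRing (Localization.AtPrime P) := IsLocalization.isNoetherianRing P.primeCompl _ inferInstance
  exact CAlgH.isRegularHom_cpl_surjective e.toRingEquiv.toRingHom e.surjective ((hP f hfs).2 P)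

theorem isQCoh_tilde (A : CommRingCat.{u}) (M : ModuleCat.{u} A) : Coh.IsQCoh (tilde M) := inferInstance

end Groth.Agent.MorProj
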