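import Groth.Agent.AmpleLib.Tensor
import Groth.Agent.AmpleLib.Local

/-!
# Tensor-invertible modules are invertible
-/

set_option autoImplicit false
set_option linter.unusedSectionVars false
set_option backward.isDefEq.respectTransparency.types false
set_option maxHeartbeats 1000000

universe u

open AlgebraicGeometry CategoryTheory CategoryTheory.Limits TopologicalSpace Opposite
open Groth.Agent.Coherent Groth.Agent.PicLib Groth.Agent.AmpleLib

namespace Groth.Agent.MorProj

variable {X : Scheme.{u}} {L N : X.Modules} (e : CohB1.tensorMod L N ≅ Coh.structureModule X) {W : X.Opens}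

/-- The function `e (a ⊗ b)`. -/
noncomputable def pairing {U : X.Opens} (a : Γ(L, U)) (b : Γ(N, U)) : Γ(X, U) := e.hom.app U (tmul a b)

theorem pairing_smul_left {U : X.Opens} (r : Γ(X, U)) (a : Γ(L, U)) (b : Γ(N, U)) :
    pairing e (r • a) b = r * pairing e a b := by
  unfold pairing
  rw [tmul_smul_left, Scheme.Modules.Hom.app_smul]
  rfl

theorem pairing_smul_right {U : X.Opens} (r : Γ(X, U)) (a : Γ(L, U)) (b : Γ(N, U)) :
    pairing e a (r • b) = r * pairing e a b := by
  unfold pairing
  rw [tmul_smul_right, Scheme.Modules.Hom.app_smul]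
  rfl

theorem pairing_add_right {U : X.Opens} (a : Γ(L, U)) (b b' : Γ(N, U)) :
    pairing e a (b + b') = pairing e a b + pairing e a b' := by
  unfold pairing
  rw [tmul_add_right, map_add]
  rfl

theorem pairing_add_left {U : X.Opens} (a a' : Γ(L, U)) (b : Γ(N, U)) :
    pairing e (a + a') b = pairing e a b + pairing e a' b := by
  unfold pairing
  rw [tmul_add_left, map_add]
  rfl

theorem pairing_res {U V : X.Opens} (h : V ≤ U) (a : Γ(L, U)) (b : Γ(N, U)) :
    pairing e (resM L h a) (resM N h b) = res h (pairing e a b) := by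
  unfold pairing
  rw [← resM_tmul, app_resM]
  rfl

theorem image_preimage_le (U : X.Opens) : W.ι ''ᵁ (W.ι ⁻¹ᵁ U) ≤ U := Set.image_preimage_subset _ _

theorem image_preimage_le' (U : X.Opens) : W.ι ''ᵁ (W.ι ⁻¹ᵁ U) ≤ W := by
  rintro _ ⟨z, -, rfl⟩
  exact z.2

theorem app_ι_eq (U : X.Opens) (r : Γ(X, U)) :
    (W.ι.appIso (W.ι ⁻¹ᵁ U)).inv (W.ι.app U r) = res (image_preimage_le U) r := by
  rw [Scheme.Opens.ι_appIso, Scheme.Opens.ι_app]
  rfl

/-- Sections over `W ⊓ U` as sections over `U` of the direct image of the restriction to `W`. -/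
noncomputable def pushTo (U : X.Opens) :
    Γ(L, W.ι ''ᵁ (W.ι ⁻¹ᵁ U)) →+ Γ((Scheme.Modules.pushforward W.ι).obj (L.restrict W.ι), U) :=
  (L.restrictAppIso W.ι (W.ι ⁻¹ᵁ U)).inv.hom

theorem pushTo_injective (U : X.Opens) : Function.Injective (pushTo (L := L) (W := W) U) :=
  (ConcreteCategory.bijective_of_isIso (L.restrictAppIso W.ι (W.ι ⁻¹ᵁ U)).inv).1

theorem pushTo_smul (U : X.Opens) (r : Γ(X, U)) (x : Γ(L, W.ι ''ᵁ (W.ι ⁻¹ᵁ U))) :
    pushTo U (res (image_preimage_le (W := W) U) r • x) = r • pushTo U x := by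
  apply (ConcreteCategory.bijective_of_isIso (L.restrictAppIso W.ι (W.ι ⁻¹ᵁ U)).hom).1
  rw [← app_ι_eq]
  exact (Scheme.Modules.smul_restrictAppIso_hom_apply W.ι L (W.ι ⁻¹ᵁ U) (W.ι.app U r) (pushTo U x)).symm

theorem pushTo_resM {U V : X.Opens} (h : V ≤ U) (k : W.ι ''ᵁ (W.ι ⁻¹ᵁ V) ≤ W.ι ''ᵁ (W.ι ⁻¹ᵁ U))
    (x : Γ(L, W.ι ''ᵁ (W.ι ⁻¹ᵁ U))) :
    resM _ h (pushTo U x) = pushTo V (resM L k x) :=
  congr($(Scheme.Modules.restrict_map L W.ι ((Opens.map W.ι.base).map (homOfLE h))) x)

/-- The bilinear map `(a, b) ↦ ⟨l, b⟩ a` over `W`. -/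
noncomputable def swapBilin (l : Γ(L, W)) :
    Bilin L N ((Scheme.Modules.pushforward W.ι).obj (L.restrict W.ι)) where
  app U a b := pushTo U
    (pairing e (resM L (image_preimage_le' U) l) (resM N (image_preimage_le U) b) • resM L (image_preimage_le U) a)
  add_left U a a' b := by rw [map_add, smul_add, map_add]
  add_right U a b b' := by rw [map_add, pairing_add_right, add_smul, map_add]
  smul_left U r a b := by rw [resM_smul, smul_comm, pushTo_smul]
  smul_right U r a b := by rw [resM_smul, pairing_smul_right, mul_smul, pushTo_smul]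
  res U V h a b := by
    rw [pushTo_resM h (W.ι.image_mono ((Opens.map W.ι.base).map (homOfLE h)).le)]
    congr 1
    rw [resM_smul, ← pairing_res, resM_resM, resM_resM, resM_resM, resM_resM, resM_resM]

include e in
/-- A pairing taking a unit value gives a generator. -/
theorem isGen_of_isUnit_pairing {l : Γ(L, W)} {n : Γ(N, W)} (hu : IsUnit (pairing e l n)) : IsGen L W l := by
  intro V hV
  have hu' : IsUnit (pairing e (resM L hV l) (resM N hV n)) := by
    rw [pairing_res]; exact hu.map _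
  have hinj : ∀ a : Γ(L, V), pairing e a (resM N hV n) = 0 → a = 0 := by
    intro a ha
    have h0 : tmul a (resM N hV n) = 0 :=
      (ConcreteCategory.bijective_of_isIso (e.hom.app V)).1 (ha.trans (map_zero _).symm)
    have h1 := congrArg ((swapBilin e l).desc.app V) h0
    rw [Bilin.desc_tmul, map_zero] at h1
    have h2 := pushTo_injective V (h1.trans (map_zero (pushTo (L := L) (W := W) V)).symm)
    have he : W.ι ''ᵁ (W.ι ⁻¹ᵁ V) = V := by
      rw [W.ι.image_preimage_eq_opensRange_inf, Scheme.Opens.opensRange_ι, inf_eq_right]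
      exact hV
    have h3 := congrArg (resM L he.ge) h2
    rw [resM_smul, ← pairing_res, resM_resM, resM_resM, resM_resM, resM_resM, resM_self, map_zero] at h3
    obtain ⟨u, hu''⟩ := hu'
    rw [← hu''] at h3
    have h4 := congrArg ((u⁻¹ : Γ(X, V)ˣ).1 • ·) h3
    simpa [smul_smul] using h4
  refine ⟨fun r r' h => ?_, fun a => ?_⟩
  · have := congrArg (fun a => pairing e a (resM N hV n)) h
    simp only [pairing_smul_left] at this
    exact hu'.mul_left_injective this
  · obtain ⟨u, hu''⟩ := hu'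
    refine ⟨pairing e a (resM N hV n) * (u⁻¹ : Γ(X, V)ˣ), ?_⟩
    refine sub_eq_zero.1 (hinj _ ?_)
    rw [sub_eq_add_neg, ← neg_one_smul Γ(X, V) a, pairing_add_left, pairing_smul_left, pairing_smul_left, ← hu'',
      mul_assoc, ← Units.val_mul, inv_mul_cancel, Units.val_one]
    ring

include e in
/-- A tensor-invertible module is invertible. -/
theorem isInvertible_of_tensor_iso : PicF.IsInvertible L := by
  refine isInvertible_of_gens fun x => ?_
  have hP : ∀ (U : X.Opens) (z : Γ(CohB1.tensorMod L N, U)), ∀ y, ∀ hy : y ∈ U,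
      IsUnit (X.presheaf.germ U y hy (show Γ(X, U) from e.hom.app U z)) →
        ∃ (V : X.Opens), y ∈ V ∧ ∃ (l : Γ(L, V)) (n : Γ(N, V)), IsUnit (pairing e l n) := by
    refine AmpleLib.induction_local (P := fun U z => ∀ y, ∀ hy : y ∈ U,
      IsUnit (X.presheaf.germ U y hy (show Γ(X, U) from e.hom.app U z)) →
        ∃ (V : X.Opens), y ∈ V ∧ ∃ (l : Γ(L, V)) (n : Γ(N, V)), IsUnit (pairing e l n)) ?_ ?_ ?_ ?_
    · intro U z z' h h' y hy hu
      rw [show (show Γ(X, U) from e.hom.app U (z + z')) =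
        (show Γ(X, U) from e.hom.app U z) + (show Γ(X, U) from e.hom.app U z') from map_add _ _ _, map_add] at hu
      rcases IsLocalRing.isUnit_or_isUnit_of_isUnit_add hu with hu | hu
      exacts [h y hy hu, h' y hy hu]
    · intro U y hy hu
      rw [show (show Γ(X, U) from e.hom.app U (0 : Γ(CohB1.tensorMod L N, U))) = 0 from map_zero _, map_zero] at hu
      exact absurd hu not_isUnit_zero
    · intro U z h y hy hu
      obtain ⟨V, hVU, hyV, h'⟩ := h y hy
      refine h' y hyV ?_
      rw [show (show Γ(X, V) from e.hom.app V (resM _ hVU z)) = res hVU (show Γ(X, U) from e.hom.app U z) from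
        app_resM e.hom hVU z]
      rwa [show X.presheaf.germ V y hyV (res hVU (show Γ(X, U) from e.hom.app U z)) =
        X.presheaf.germ U y hy (show Γ(X, U) from e.hom.app U z) from TopCat.Presheaf.germ_res_apply _ _ _ _ _]
    · intro U a b y hy hu
      have hy' : y ∈ X.basicOpen (pairing e a b) := (X.mem_basicOpen _ _ hy).2 hu
      refine ⟨X.basicOpen (pairing e a b), hy', resM L (X.basicOpen_le _) a, resM N (X.basicOpen_le _) b, ?_⟩
      rw [pairing_res]
      exact X.toLocallyRingedSpace.toRingedSpace.isUnit_res_basicOpen _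
  let one : Γ(Coh.structureModule X, ⊤) := (1 : Γ(X, ⊤))
  obtain ⟨V, hxV, l, n, hu⟩ := hP ⊤ (e.inv.app ⊤ one) x trivial (by
    have he : e.hom.app ⊤ (e.inv.app ⊤ one) = one :=
      ConcreteCategory.congr_hom (congrArg (fun α => α.app ⊤) e.inv_hom_id) _
    rw [he]
    show IsUnit (X.presheaf.germ ⊤ x trivial (1 : Γ(X, ⊤)))
    rw [map_one]
    exact isUnit_one)
  exact ⟨V, hxV, l, isGen_of_isUnit_pairing e hu⟩

end Groth.Agent.MorProj
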