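import Groth.Agent.Coherent.PullUnit
import Groth.Agent.AmpleLib.FTIdeal
import Groth.Agent.AmpleLib.Relative
import Groth.Prelude.Def_OmAff

/-!
# The frozen sheaf of differentials on affine opens
-/

set_option autoImplicit false
set_option linter.unusedSectionVars false
set_option backward.isDefEq.respectTransparency.types false
set_option maxHeartbeats 1000000

universe u

open AlgebraicGeometry CategoryTheory CategoryTheory.Limits TopologicalSpace Opposite TensorProduct
open Groth.Agent.Coherent Groth.Agent.PicLib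

namespace Groth.Agent.MorProj

section algebra

variable {A B R M T : Type u} [CommRing A] [CommRing B] [Algebra A B] [CommRing R] [AddCommGroup M] [Module R M]
  [AddCommGroup T] [Module B T]

/-- A base change of the kernel of multiplication is the module of differentials. -/
theorem bijective_of_baseChange [Algebra R B] [Module R T] [IsScalarTower R B T]
    (ψ : B ⊗[A] B ≃+* R) (hψ : ∀ z, algebraMap R B (ψ z) = Algebra.TensorProduct.lmul' A z)
    (i : M →ₗ[R] R) (hi : Function.Injective i) (hker : ∀ x, algebraMap R B (i x) = 0)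
    (μ : M →ₗ[R] T) (hμ : IsBaseChange B μ) (ε : B → M) (hε : ∀ b, i (ε b) = ψ (1 ⊗ₜ b - b ⊗ₜ 1))
    (L : Ω[B⁄A] →ₗ[B] T) (hL : ∀ b, L (KaehlerDifferential.D A B b) = μ (ε b)) :
    Function.Bijective L := by
  have hmem : ∀ x, ψ.symm (i x) ∈ KaehlerDifferential.ideal A B := fun x => by
    show Algebra.TensorProduct.lmul' A (ψ.symm (i x)) = 0
    rw [← hψ, RingEquiv.apply_symm_apply, hker]
  have hsmul : ∀ (z : B ⊗[A] B) (w : Ω[B⁄A]), z • w = Algebra.TensorProduct.lmul' A z • w := fun z w => by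
    obtain ⟨⟨y, hy⟩, rfl⟩ : ∃ y, KaehlerDifferential.fromIdeal A B y = w :=
      (KaehlerDifferential.ideal A B).toCotangent_surjective w
    have hsub : z - Algebra.TensorProduct.lmul' A z ⊗ₜ[A] (1 : B) ∈ KaehlerDifferential.ideal A B := by
      simp [RingHom.mem_ker]
    have h2 : Algebra.TensorProduct.lmul' A z • KaehlerDifferential.fromIdeal A B ⟨y, hy⟩ =
        (Algebra.TensorProduct.lmul' A z ⊗ₜ[A] (1 : B)) • KaehlerDifferential.fromIdeal A B ⟨y, hy⟩ := by
      rw [← algebraMap_smul (B ⊗[A] B) (Algebra.TensorProduct.lmul' A z) (KaehlerDifferential.fromIdeal A B ⟨y, hy⟩)]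
      rfl
    rw [h2, ← sub_eq_zero, ← sub_smul, ← map_smul]
    show (KaehlerDifferential.ideal A B).toCotangent _ = 0
    rw [Ideal.toCotangent_eq_zero, pow_two]
    exact Ideal.mul_mem_mul hsub hy
  let ν : M →ₗ[R] Ω[B⁄A] :=
    { toFun := fun x => KaehlerDifferential.fromIdeal A B ⟨ψ.symm (i x), hmem x⟩
      map_add' := fun x y => by
        rw [← map_add]
        congr 1
        exact Subtype.ext (by simp)
      map_smul' := fun r x => by
        rw [RingHom.id_apply, ← algebraMap_smul B r (_ : Ω[B⁄A])]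
        have h1 : algebraMap R B r = Algebra.TensorProduct.lmul' A (ψ.symm r) := by
          rw [← hψ, RingEquiv.apply_symm_apply]
        rw [h1, ← hsmul, ← map_smul]
        congr 1
        exact Subtype.ext (by simp) }
  have hν : ∀ b, ν (ε b) = KaehlerDifferential.D A B b := fun b => by
    rw [KaehlerDifferential.D_apply]
    show (KaehlerDifferential.ideal A B).toCotangent _ = _
    congr 1
    apply Subtype.ext
    show ψ.symm (i (ε b)) = _
    rw [hε, RingEquiv.symm_apply_apply]
  have hgL : ∀ w, hμ.lift ν (L w) = w := by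
    intro w
    have hw : w ∈ Submodule.span B (Set.range (KaehlerDifferential.D A B)) := by
      rw [KaehlerDifferential.span_range_derivation]; trivial
    induction hw using Submodule.span_induction with
    | mem y hy => obtain ⟨b, rfl⟩ := hy; rw [hL, hμ.lift_eq, hν]
    | zero => rw [map_zero, map_zero]
    | add y z _ _ hy hz => rw [map_add, map_add, hy, hz]
    | smul b y _ hy => rw [map_smul, map_smul, hy]
  have hspan : ∀ z ∈ Ideal.span (Set.range fun s : B => (1 : B) ⊗ₜ[A] s - s ⊗ₜ[A] (1 : B)),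
      ∃ x, i x = ψ z ∧ μ x ∈ LinearMap.range L := by
    intro z hz
    induction hz using Submodule.span_induction with
    | mem y hy => obtain ⟨b, rfl⟩ := hy; exact ⟨ε b, hε b, _, hL b⟩
    | zero => exact ⟨0, by simp, by simp⟩
    | add y z _ _ hy hz =>
      obtain ⟨x, hx, hxL⟩ := hy
      obtain ⟨x', hx', hxL'⟩ := hz
      exact ⟨x + x', by rw [map_add, map_add, hx, hx'], by rw [map_add]; exact add_mem hxL hxL'⟩
    | smul c y _ hy =>
      obtain ⟨x, hx, hxL⟩ := hy
      refine ⟨ψ c • x, by rw [map_smul, hx, smul_eq_mul, smul_eq_mul, map_mul], ?_⟩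
      rw [map_smul, ← algebraMap_smul B (ψ c)]
      exact Submodule.smul_mem _ _ hxL
  have hrange : ∀ x, μ x ∈ LinearMap.range L := fun x => by
    have h1 := hmem x
    rw [← KaehlerDifferential.span_range_eq_ideal] at h1
    obtain ⟨x', hx', hxL⟩ := hspan _ h1
    rw [RingEquiv.apply_symm_apply] at hx'
    rwa [← hi hx']
  refine ⟨Function.LeftInverse.injective hgL, fun t => ?_⟩
  induction t using hμ.inductionOn with
  | zero => exact ⟨0, map_zero _⟩
  | tmul m => exact hrange m
  | smul b t ht => obtain ⟨w, rfl⟩ := ht; exact ⟨b • w, map_smul _ _ _⟩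
  | add t t' ht ht' =>
    obtain ⟨w, rfl⟩ := ht
    obtain ⟨w', rfl⟩ := ht'
    exact ⟨w + w', map_add _ _ _⟩

end algebra

section geometry

/-- Ideal sheaves are quasi-coherent modules. -/
theorem isQCoh_idealMod {P : Scheme.{u}} (I : P.IdealSheafData) : Coh.IsQCoh (ClSub.idealMod I) := by
  have : Coh.IsQCoh (Coh.structureModule P) := isQCoh_structureModule (X := P)
  have : Coh.IsQCoh (Coh.structureModule I.subscheme) := isQCoh_structureModule (X := I.subscheme)
  have : Coh.IsQCoh ((Scheme.Modules.pushforward I.subschemeι).obj (Coh.structureModule I.subscheme)) :=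
    isQCoh_push I.subschemeι _
  exact isQCoh_kernel (ClSub.toSubscheme I)

variable {X Y : Scheme.{u}} (f : X ⟶ Y) [QuasiSeparated f]

/-- The frozen sheaf of differentials is quasi-coherent. -/
theorem isQCoh_omega : Coh.IsQCoh (Omega.sheaf f) :=
  haveI := isQCoh_idealMod (pullback.diagonal f).ker
  EGA43.InjFibre.isQCoh_pullback (pullback.diagonal f) (ClSub.idealMod (pullback.diagonal f).ker)

theorem preimage_diagNbhd (U : X.Opens) : pullback.diagonal f ⁻¹ᵁ OmegaSh.diagNbhd f U = U := by
  rw [Scheme.Hom.preimage_inf, ← Scheme.Hom.comp_preimage, ← Scheme.Hom.comp_preimage, pullback.diagonal_fst,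
    pullback.diagonal_snd, Scheme.Hom.id_preimage, inf_idem]

/-- The comparison map is bijective on affine opens. -/
theorem isIso_toSect {U : X.Opens} (hU : IsAffineOpen U) {V : Y.Opens} (hV : IsAffineOpen V) (h : U ≤ f ⁻¹ᵁ V) :
    IsIso (OmAff.toSect f V U h) := by
  let P := pullback f f
  let Δ := pullback.diagonal f
  let W := OmegaSh.diagNbhd f U
  have hW : IsAffineOpen W := AmpleLib.isAffineOpen_fst_inf_snd f f hV hU hU h h
  let I := Δ.ker
  haveI := isQCoh_idealMod I
  have e : U ≤ Δ ⁻¹ᵁ W := OmegaSh.le_preimage_diagNbhd f U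
  letI : Algebra Γ(Y, V) Γ(X, U) := (f.appLE V U h).hom.toAlgebra
  letI : Algebra Γ(P, W) Γ(X, U) := (Δ.appLE W U e).hom.toAlgebra
  letI : Module Γ(P, W) Γ((Scheme.Modules.pullback Δ).obj (ClSub.idealMod I), U) :=
    Module.compHom _ (Δ.appLE W U e).hom
  haveI : IsScalarTower Γ(P, W) Γ(X, U) Γ((Scheme.Modules.pullback Δ).obj (ClSub.idealMod I), U) :=
    IsScalarTower.of_algebraMap_smul fun _ _ => rfl
  obtain ⟨μ, hμ, hμe⟩ := EGA43.InjFibre.pullMap_isBaseChange Δ hW hU e (ClSub.idealMod I)
  let p₁ := (pullback.fst f f).appLE U W inf_le_left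
  let p₂ := (pullback.snd f f).appLE U W inf_le_right
  have hpush : IsPushout (f.appLE V U h) (f.appLE V U h) p₁ p₂ :=
    (isIso_pushoutSection_iff (IsPullback.of_hasPullback f f) h h rfl).1
      (isIso_pushoutSection_of_isAffineOpen (IsPullback.of_hasPullback f f) h h rfl hV hU hU)
  have hT := CommRingCat.isPushout_tensorProduct Γ(Y, V) Γ(X, U) Γ(X, U)
  let eqv := hT.isoIsPushout _ _ hpush
  let ψ : Γ(X, U) ⊗[Γ(Y, V)] Γ(X, U) ≃+* Γ(P, W) := eqv.commRingCatIsoToRingEquiv
  have hψ₁ : ∀ a, ψ (a ⊗ₜ 1) = p₁ a := fun a =>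
    ConcreteCategory.congr_hom (hT.inl_isoIsPushout_hom _ _ hpush) a
  have hψ₂ : ∀ a, ψ (1 ⊗ₜ a) = p₂ a := fun a =>
    ConcreteCategory.congr_hom (hT.inr_isoIsPushout_hom _ _ hpush) a
  have hd₁ : ∀ a, Δ.appLE W U e (p₁ a) = a := fun a => by
    show (p₁ ≫ Δ.appLE W U e) a = a
    rw [Scheme.Hom.appLE_comp_appLE, OmegaSh.id_appLE_eq_id (pullback.diagonal_fst f)]
    rfl
  have hd₂ : ∀ a, Δ.appLE W U e (p₂ a) = a := fun a => by
    show (p₂ ≫ Δ.appLE W U e) a = a
    rw [Scheme.Hom.appLE_comp_appLE, OmegaSh.id_appLE_eq_id (pullback.diagonal_snd f)]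
    rfl
  have hψ : ∀ z, algebraMap Γ(P, W) Γ(X, U) (ψ z) = Algebra.TensorProduct.lmul' Γ(Y, V) z := fun z => by
    induction z using TensorProduct.induction_on with
    | zero => simp
    | tmul a b =>
      show Δ.appLE W U e (ψ (a ⊗ₜ b)) = _
      rw [show a ⊗ₜ[Γ(Y, V)] b = (a ⊗ₜ 1) * (1 ⊗ₜ b) by simp, map_mul, hψ₁, hψ₂, map_mul, hd₁, hd₂, map_mul]
      simp
    | add x y hx hy => simp only [map_add, hx, hy]
  let i : Γ(ClSub.idealMod I, W) →ₗ[Γ(P, W)] Γ(P, W) := appLin (ClSub.idealModι I) W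
  have hker : ∀ x, Δ.appLE W U e (i x) = 0 := fun x => by
    have h1 : I.subschemeι.app W (i x) = 0 := (AmpleLib.mem_range_idealModι I W _).1 ⟨x, rfl⟩
    have h2 : i x ∈ I.ideal ⟨W, hW⟩ := by
      rw [← I.ker_subschemeι_app ⟨W, hW⟩]
      exact h1
    rw [Scheme.Hom.ker_apply, RingHom.mem_ker] at h2
    show X.presheaf.map _ (Δ.app W (i x)) = 0
    rw [h2, map_zero]
  have hι : Function.Injective i := OmegaSh.idealModι_app_injective W I
  let L : Ω[Γ(X, U)⁄Γ(Y, V)] →ₗ[Γ(X, U)] Γ((Scheme.Modules.pullback Δ).obj (ClSub.idealMod I), U) :=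
    (OmAff.toSect f V U h).hom
  have key := bijective_of_baseChange ψ hψ i hι hker μ hμ (OmegaSh.idealLift f U) (fun b => ?_) L fun b => ?_
  · exact (ConcreteCategory.isIso_iff_bijective _).2 key
  · rw [map_sub, hψ₁, hψ₂]
    exact OmegaSh.ι_idealLift f U b
  · rw [hμe, Coherent.pullMap_eq_resM_pullSec]
    exact OmAff.toSect_d f V U h b

/-- The comparison map from the differentials of an algebra is bijective. -/
theorem bijective_toSpec (A B : Type u) [CommRing A] [CommRing B] [Algebra A B] :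
    Function.Bijective (OmAff.toSpec A B) := by
  let g := Spec.map (CommRingCat.ofHom (algebraMap A B))
  let A' := Γ(Spec (CommRingCat.of A), ⊤)
  let B' := Γ(Spec (CommRingCat.of B), ⊤)
  have h : (⊤ : (Spec (CommRingCat.of B)).Opens) ≤ g ⁻¹ᵁ ⊤ := le_top
  have hiso := isIso_toSect g (isAffineOpen_top _) (isAffineOpen_top _) h
  let S := OmAff.toSect g ⊤ ⊤ h
  have hS := (ConcreteCategory.isIso_iff_bijective S).1 hiso
  let toB : B' →+* B := (Scheme.ΓSpecIso (CommRingCat.of B)).hom.hom
  let toA : A' →+* A := (Scheme.ΓSpecIso (CommRingCat.of A)).hom.hom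
  letI : Algebra A' B' := (g.appLE ⊤ ⊤ h).hom.toAlgebra
  letI : Algebra A' A := toA.toAlgebra
  letI : Algebra B' B := toB.toAlgebra
  letI : Algebra A' B := ((algebraMap A B).comp toA).toAlgebra
  haveI : IsScalarTower A' A B := IsScalarTower.of_algebraMap_eq' rfl
  haveI : IsScalarTower A' B' B := IsScalarTower.of_algebraMap_eq fun x => by
    show algebraMap A B (toA x) = toB (g.appLE ⊤ ⊤ h x)
    rw [show g.appLE ⊤ ⊤ h = g.appTop from (g.app_eq_appLE).symm]
    exact (ConcreteCategory.congr_hom (Scheme.ΓSpecIso_naturality (CommRingCat.ofHom (algebraMap A B))) x).symm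
  haveI : SMulCommClass A B' B := ⟨fun a x b => by simp [Algebra.smul_def, mul_left_comm]⟩
  let θ := KaehlerDifferential.map A' A B' B
  have hθ : ∀ x, θ (KaehlerDifferential.D A' B' x) = KaehlerDifferential.D A B (toB x) :=
    fun x => KaehlerDifferential.map_D A' A B' B x
  have htoB : ∀ b, toB (OmAff.toΓ B b) = b := fun b =>
    ConcreteCategory.congr_hom (Scheme.ΓSpecIso (CommRingCat.of B)).inv_hom_id b
  have htoΓ : ∀ x, OmAff.toΓ B (toB x) = x := fun x =>
    ConcreteCategory.congr_hom (Scheme.ΓSpecIso (CommRingCat.of B)).hom_inv_id x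
  -- `toSpec` on the image of `θ`
  have hcomp : ∀ w : Ω[B'⁄A'], OmAff.toSpec A B (θ w) = S w := by
    intro w
    have hw : w ∈ Submodule.span B' (Set.range (KaehlerDifferential.D A' B')) := by
      rw [KaehlerDifferential.span_range_derivation]; trivial
    induction hw using Submodule.span_induction with
    | mem y hy =>
      obtain ⟨x, rfl⟩ := hy
      rw [hθ, OmAff.toSpec_D, htoΓ]
      exact (OmAff.toSect_d g ⊤ ⊤ h x).symm
    | zero => rw [map_zero, map_zero]; exact (map_zero S.hom).symm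
    | add y z _ _ hy hz =>
      rw [map_add, map_add, hy, hz]
      exact (map_add S.hom y z).symm
    | smul b y _ hy =>
      rw [map_smul, ← algebraMap_smul B b (θ y), LinearMap.map_smulₛₗ, hy]
      show OmAff.toΓ B (toB b) • _ = _
      rw [htoΓ]
      exact (map_smul S.hom b y).symm
  have hsur : Function.Surjective θ := by
    intro w
    have hw : w ∈ Submodule.span B (Set.range (KaehlerDifferential.D A B)) := by
      rw [KaehlerDifferential.span_range_derivation]; trivial
    induction hw using Submodule.span_induction with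
    | mem y hy => obtain ⟨b, rfl⟩ := hy; exact ⟨KaehlerDifferential.D A' B' (OmAff.toΓ B b), by rw [hθ, htoB]⟩
    | zero => exact ⟨0, map_zero _⟩
    | add y z _ _ hy hz =>
      obtain ⟨a, rfl⟩ := hy
      obtain ⟨c, rfl⟩ := hz
      exact ⟨a + c, map_add _ _ _⟩
    | smul b y _ hy =>
      obtain ⟨a, rfl⟩ := hy
      exact ⟨OmAff.toΓ B b • a, by rw [map_smul, ← algebraMap_smul B (OmAff.toΓ B b) (θ a)]; show toB _ • _ = _; rw [htoB]⟩
  constructor
  · intro x y hxy
    obtain ⟨a, rfl⟩ := hsur x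
    obtain ⟨b, rfl⟩ := hsur y
    rw [hcomp, hcomp] at hxy
    rw [hS.1 hxy]
  · intro t
    obtain ⟨w, hw⟩ := hS.2 t
    exact ⟨θ w, (hcomp w).trans hw⟩

/-- The differentials of an affine morphism are the tilde of the module of differentials. -/
theorem nonempty_omega_iso_tilde (A B : Type u) [CommRing A] [CommRing B] [Algebra A B] :
    Nonempty (Omega.sheaf (Spec.map (CommRingCat.ofHom (algebraMap A B))) ≅
      tilde (R := CommRingCat.of B) (ModuleCat.of B (Ω[B⁄A]))) := by
  let F := Omega.sheaf (Spec.map (CommRingCat.ofHom (algebraMap A B)))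
  haveI : Coh.IsQCoh F := isQCoh_omega _
  haveI : IsIso (Scheme.Modules.fromTildeΓ (R := CommRingCat.of B) F) :=
    (isQuasicoherent_iff_isIso_fromTildeΓ _).1 inferInstance
  let l : Ω[B⁄A] →ₗ[B] (moduleSpecΓFunctor.obj F : ModuleCat (CommRingCat.of B)) :=
    { toFun := OmAff.toSpec A B
      map_add' := map_add _
      map_smul' := fun b x => by
        rw [LinearMap.map_smulₛₗ]
        rfl }
  exact ⟨(asIso (Scheme.Modules.fromTildeΓ (R := CommRingCat.of B) F)).symm ≪≫
    (tilde.functor (CommRingCat.of B)).mapIso (LinearEquiv.ofBijective l (bijective_toSpec A B)).toModuleIso.symm⟩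

end geometry

end Groth.Agent.MorProj
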