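import Groth.Agent.AmpleLib.Relative2
import Groth.Agent.ValExtLib.Criterion
import Groth.Agent.PnEmb.Criterion
import Mathlib.AlgebraicGeometry.AffineSpace

/-!
# Sections on quasi-affine schemes; loci of sections over universally closed bases
-/

set_option autoImplicit false
set_option linter.unusedSectionVars false
set_option backward.isDefEq.respectTransparency.types false
set_option maxHeartbeats 1000000

universe u

open AlgebraicGeometry CategoryTheory CategoryTheory.Limits TopologicalSpace Opposite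
open Groth.Agent.Coherent Groth.Agent.PicLib Groth.Agent.AmpleLib

namespace Groth.Agent.MorProj

variable {X S : Scheme.{u}} {L : X.Modules}

section finite

/-- On a quasi-affine scheme the affine loci of global sections of an invertible module form a basis. -/
theorem exists_glocus_one [X.IsQuasiAffine] (hL : PicF.IsInvertible L) {x : X} {U : X.Opens} (hx : x ∈ U) :
    ∃ b : Γ(L, ⊤), x ∈ glocus L b ∧ glocus L b ≤ U ∧ IsAffineOpen (glocus L b) := by
  have := AmpleLib.isQCoh_of_isInvertible hL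
  obtain ⟨W, hxW, g, hg⟩ := exists_isGen hL x
  obtain ⟨_, ⟨r, hr, rfl⟩, hxr, hrW⟩ :=
    Opens.isBasis_iff_nbhd.1 (Scheme.IsQuasiAffine.isBasis_basicOpen X) (show x ∈ W ⊓ U from ⟨hxW, hx⟩)
  let s : Γ(Coh.structureModule X, ⊤) := r
  have hs : glocus (Coh.structureModule X) s = X.basicOpen r := glocus_structureModule r
  have hsW : glocus (Coh.structureModule X) s ≤ W := hs.le.trans (hrW.trans inf_le_left)
  obtain ⟨n, t, ht⟩ := exists_extend L s isInvertible_structureModule (resM L hsW g)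
  have hP := isInvertible_tensorPow (isInvertible_structureModule (X := X)) n
  have hgen : IsGen (CohB1.tensorMod L (CohB1.tensorPow (Coh.structureModule X) n))
      (glocus (Coh.structureModule X) s) (tmul (resM L hsW g) (powSec (resM _ le_top s) n)) :=
    isGen_tmul (hg.restrict hsW) (isGen_powSec (isGen_glocus s) n)
  let d : Γ(CohB1.tensorMod L (CohB1.tensorPow (Coh.structureModule X) n), ⊤) := r • t
  have hd : glocus _ d = X.basicOpen r := by
    rw [glocus_smul_eq (isInvertible_tensorMod hL hP), inf_eq_right, ← hs, le_glocus_iff, ht]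
    exact hgen
  obtain ⟨e₀⟩ := exists_structurePowIso (X := X) n
  let e : CohB1.tensorMod L (CohB1.tensorPow (Coh.structureModule X) n) ≅ L :=
    tensorIso (Iso.refl L) e₀ ≪≫ tensorComm _ _ ≪≫ unitTensorIso _
  exact ⟨e.hom.app ⊤ d, by rw [glocus_map_iso, hd]; exact hxr,
    by rw [glocus_map_iso, hd]; exact hrW.trans inf_le_right, by rw [glocus_map_iso, hd]; exact hr⟩

/-- If affine loci of sections form a basis, finitely many points lie in one of them. -/
theorem exists_glocus_finite_of_basis (hP : PicF.IsInvertible L)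
    (h : ∀ (x : X) (U : X.Opens), x ∈ U →
      ∃ b : Γ(L, ⊤), x ∈ glocus L b ∧ glocus L b ≤ U ∧ IsAffineOpen (glocus L b))
    {U : X.Opens} (Z : Set X) (hZ : Z.Finite) (hZU : Z ⊆ U) :
    ∃ s : Γ(L, ⊤), Z ⊆ glocus L s ∧ glocus L s ≤ U ∧ IsAffineOpen (glocus L s) := by
  classical
  let Z₀ : Set X := {z ∈ Z | ∀ w ∈ Z, z ⤳ w → w = z}
  have hZ₀ : ∀ z ∈ Z, ∃ w ∈ Z₀, z ⤳ w := by
    intro z hz
    obtain ⟨w, hw, hmin⟩ := (hZ.subset (Set.sep_subset Z (fun w => z ⤳ w))).exists_minimal ⟨z, hz, specializes_rfl⟩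
    exact ⟨w, ⟨hw.1, fun v hv hwv => ((show v ⤳ w from hmin ⟨hv, hw.2.trans hwv⟩ hwv).antisymm hwv).eq⟩, hw.2⟩
  have hfin : Z₀.Finite := hZ.subset (Set.sep_subset _ _)
  have := hfin.fintype
  have hsep : ∀ z : Z₀, ∃ b : Γ(L, ⊤), z.1 ∈ glocus L b ∧ glocus L b ≤ (U ⊓ ⟨(⋃ w ∈ Z₀ \ {z.1}, closure {w})ᶜ,
      ((hfin.subset Set.sdiff_subset).isClosed_biUnion fun _ _ => isClosed_closure).isOpen_compl⟩) ∧
      IsAffineOpen (glocus L b) := fun z => by
    refine h _ _ ⟨hZU z.2.1, fun h => ?_⟩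
    obtain ⟨w, hw, hzw⟩ := Set.mem_iUnion₂.1 h
    exact hw.2 (hw.1.2 z.1 z.2.1 (specializes_iff_mem_closure.2 hzw)).symm
  choose c hxb hbU hb using hsep
  let s : Γ(L, ⊤) := ∑ z, c z
  have hmem : ∀ z : Z₀, z.1 ∈ glocus _ s := by
    intro z
    obtain ⟨W, hzW, g, hg⟩ := exists_isGen hP z.1
    have h1 := glocus_inf s hg
    have hsum : hg.coef le_rfl (resM _ le_top s) = ∑ w, hg.coef le_rfl (resM _ le_top (c w)) := by
      refine hg.coef_eq _ ?_
      rw [resM_self, Finset.sum_smul, map_sum]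
      refine Finset.sum_congr rfl fun w _ => ?_
      have := hg.coef_spec le_rfl (resM _ le_top (c w))
      rwa [resM_self] at this
    suffices z.1 ∈ X.basicOpen (hg.coef le_rfl (resM _ le_top s)) from (h1.ge this).1
    rw [Scheme.mem_basicOpen _ _ _ hzW, hsum, map_sum, ← Finset.add_sum_erase _ _ (Finset.mem_univ z)]
    have hrest : ∑ w ∈ Finset.univ.erase z, X.presheaf.germ W z.1 hzW (hg.coef le_rfl (resM _ le_top (c w))) ∈
        IsLocalRing.maximalIdeal (X.presheaf.stalk z.1) := by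
      refine Ideal.sum_mem _ fun w hw => ?_
      rw [IsLocalRing.mem_maximalIdeal, mem_nonunits_iff, ← Scheme.mem_basicOpen, ← glocus_inf (c w) hg]
      intro h
      exact (hbU w h.1).2 (Set.mem_biUnion (show z.1 ∈ Z₀ \ {w.1} from
        ⟨z.2, fun e => (Finset.mem_erase.1 hw).1 (Subtype.ext e).symm⟩) (subset_closure rfl))
    have hu : IsUnit (X.presheaf.germ W z.1 hzW (hg.coef le_rfl (resM _ le_top (c z)))) := by
      rw [← Scheme.mem_basicOpen, ← glocus_inf (c z) hg]
      exact ⟨hxb z, hzW⟩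
    by_contra hn
    rw [← mem_nonunits_iff, ← IsLocalRing.mem_maximalIdeal] at hn
    have h := (IsLocalRing.maximalIdeal (X.presheaf.stalk z.1)).sub_mem hn hrest
    rw [add_sub_cancel_right] at h
    exact (IsLocalRing.mem_maximalIdeal _).1 h hu
  have hZs : Z ⊆ glocus _ s := fun z hz => by
    obtain ⟨w, hw, hzw⟩ := hZ₀ z hz
    exact hzw.mem_open (glocus _ s).2 (hmem ⟨w, hw⟩)
  let T := glocus L s
  have hgT := isGen_glocus (L := L) s
  let f : Z₀ → Γ(X, T) := fun z => hgT.coef le_rfl (resM _ le_top (c z))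
  have hf : ∀ z, X.basicOpen (f z) = T ⊓ glocus _ (c z) := fun z => by
    rw [← glocus_inf (c z) hgT, inf_comm]
  have hsum : ∑ z, f z = 1 := by
    refine (hgT T le_rfl).1 ?_
    show (∑ z, f z) • resM _ le_rfl _ = (1 : Γ(X, T)) • resM _ le_rfl _
    rw [Finset.sum_smul, one_smul, resM_self]
    refine (Finset.sum_congr rfl fun z _ => ?_).trans (map_sum (resM _ (le_top : T ≤ ⊤)) c Finset.univ).symm
    have := hgT.coef_spec le_rfl (resM _ le_top (c z))
    rwa [resM_self] at this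
  refine ⟨s, hZs, fun x hx => ?_, ?_⟩
  · by_contra hxU
    obtain ⟨z, hz⟩ : ∃ z, x ∈ X.basicOpen (f z) := by
      by_contra hall
      push Not at hall
      have h1 : (1 : X.presheaf.stalk x) ∈ IsLocalRing.maximalIdeal (X.presheaf.stalk x) := by
        rw [← map_one (X.presheaf.germ T x hx).hom, ← hsum, map_sum]
        refine Ideal.sum_mem _ fun z _ => ?_
        rw [IsLocalRing.mem_maximalIdeal, mem_nonunits_iff, ← Scheme.mem_basicOpen]
        exact hall z
      exact (IsLocalRing.mem_maximalIdeal _).1 h1 isUnit_one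
    rw [hf] at hz
    exact hxU (hbU z hz.2).1
  · refine isAffineOpen_of_isAffineOpen_basicOpen T (Set.range f) ?_ ?_
    · rw [Ideal.eq_top_iff_one, ← hsum]
      exact Ideal.sum_mem _ fun z _ => Ideal.subset_span ⟨z, rfl⟩
    · rintro _ ⟨z, rfl⟩
      rw [hf]
      exact isAffineOpen_glocus_inf hP s (hb z)

/-- Finitely many points of a quasi-affine scheme lie in an affine locus of a section of any invertible module. -/
theorem exists_affine_genLocus_of_isQuasiAffine [X.IsQuasiAffine] (hL : PicF.IsInvertible L) (W : X.Opens) (E : Set X)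
    (hE : E.Finite) (hEW : E ⊆ W) :
    ∃ s : Coh.structureModule X ⟶ L, IsAffineOpen (CohB1.genLocus L s) ∧ E ⊆ CohB1.genLocus L s ∧
      CohB1.genLocus L s ≤ W := by
  obtain ⟨s, h1, h2, h3⟩ := exists_glocus_finite_of_basis hL (fun x U hx => exists_glocus_one hL hx) E hE hEW
  exact ⟨unitDesc L s, h3, h1, h2⟩

end finite

section closed

/-- Two sections of an invertible module, and a valuation ring centred where the second generates. -/
theorem mem_glocus_of_valuationRing {P : X.Modules} (α β : Γ(P, ⊤)) {R K : Type u} [CommRing R] [IsDomain R]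
    [ValuationRing R] [Field K] [Algebra R K] [IsFractionRing R K]
    (l : Spec (.of R) ⟶ X) (i₁ : Spec (.of K) ⟶ (glocus P α).toScheme)
    (φ : Γ((glocus P α).toScheme, ⊤) ⟶ .of R)
    (h₁ : Spec.map (CommRingCat.ofHom (algebraMap R K)) ≫ l = i₁ ≫ (glocus P α).ι)
    (h₂ : i₁ ≫ (glocus P α).toScheme.toSpecΓ = Spec.map (CommRingCat.ofHom (algebraMap R K)) ≫ Spec.map φ)
    (hx : l (IsLocalRing.closedPoint R) ∈ glocus P β) :
    l (IsLocalRing.closedPoint R) ∈ glocus P α := by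
  let A := glocus P α
  let B := glocus P β
  let D := A ⊓ B
  have hα := isGen_glocus α
  have hβ := isGen_glocus β
  let e : Γ(X, A) := hα.coef le_rfl (resM P le_top β)
  let c : Γ(X, B) := hβ.coef le_rfl (resM P le_top α)
  have hce : res (inf_le_right : D ≤ B) c * res (inf_le_left : D ≤ A) e = 1 := by
    refine ((hα.restrict (inf_le_left : D ≤ A)) D le_rfl).1 ?_
    show _ • resM P le_rfl _ = (1 : Γ(X, D)) • resM P le_rfl _
    rw [resM_self, one_smul, resM_resM, mul_smul]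
    have he : res (inf_le_left : D ≤ A) e • resM P le_top α = resM P (le_top : D ≤ ⊤) β := by
      have := congrArg (resM P (inf_le_left : D ≤ A)) (hα.coef_spec le_rfl (resM P le_top β))
      simpa only [resM_smul, resM_resM] using this
    have hc : res (inf_le_right : D ≤ B) c • resM P le_top β = resM P (le_top : D ≤ ⊤) α := by
      have := congrArg (resM P (inf_le_right : D ≤ B)) (hβ.coef_spec le_rfl (resM P le_top α))
      simpa only [resM_smul, resM_resM] using this
    rw [he, hc]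
  -- the valuation ring maps into `B`
  have hlB : (⊤ : (Spec (CommRingCat.of R)).Opens) ≤ l ⁻¹ᵁ B := fun z _ =>
    ((IsLocalRing.specializes_closedPoint z).map l.continuous).mem_open B.2 hx
  let g := Spec.map (CommRingCat.ofHom (algebraMap R K))
  have hA : (⊤ : (Spec (CommRingCat.of K)).Opens) ≤ (i₁ ≫ A.ι) ⁻¹ᵁ A := fun z _ => (i₁ z).2
  have hB : (⊤ : (Spec (CommRingCat.of K)).Opens) ≤ (i₁ ≫ A.ι) ⁻¹ᵁ B := by
    rw [← h₁]
    exact fun z _ => hlB (show g z ∈ (⊤ : (Spec (CommRingCat.of R)).Opens) from trivial)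
  have hD : (⊤ : (Spec (CommRingCat.of K)).Opens) ≤ (i₁ ≫ A.ι) ⁻¹ᵁ D := le_inf hA hB
  let ψ : Γ(X, B) ⟶ .of R := l.appLE B ⊤ hlB ≫ (Scheme.ΓSpecIso (.of R)).hom
  let kc : K := algebraMap R K (ψ c)
  let ke : K := algebraMap R K (φ (A.topIso.inv e))
  have hkc : kc = (Scheme.ΓSpecIso (.of K)).hom ((i₁ ≫ A.ι).appLE B ⊤ hB c) := by
    have e1 : (i₁ ≫ A.ι).appLE B ⊤ hB = l.appLE B ⊤ hlB ≫ g.appTop := by
      have key : ∀ (w : Spec (CommRingCat.of K) ⟶ X) (hw : ⊤ ≤ w ⁻¹ᵁ B), w = g ≫ l →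
          w.appLE B ⊤ hw = l.appLE B ⊤ hlB ≫ g.appTop := by
        rintro w hw rfl
        refine (Scheme.Hom.appLE_comp_appLE g l B ⊤ ⊤ hlB le_top).symm.trans ?_
        congr 1
        all_goals exact g.app_eq_appLE
      exact key _ hB h₁.symm
    rw [e1]
    show algebraMap R K ((Scheme.ΓSpecIso (.of R)).hom (l.appLE B ⊤ hlB c)) =
      (g.appTop ≫ (Scheme.ΓSpecIso (.of K)).hom) (l.appLE B ⊤ hlB c)
    rw [Scheme.ΓSpecIso_naturality]
    rfl
  have hke : ke = (Scheme.ΓSpecIso (.of K)).hom ((i₁ ≫ A.ι).appLE A ⊤ hA e) := by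
    have e1 : i₁.appTop ≫ (Scheme.ΓSpecIso (.of K)).hom = φ ≫ CommRingCat.ofHom (algebraMap R K) := by
      apply Spec.map_injective
      rw [Spec.map_comp, Spec.map_comp, ← h₂, Scheme.toSpecΓ_naturality]
      simp
    have e2 : (i₁ ≫ A.ι).appLE A ⊤ hA = A.topIso.inv ≫ i₁.appTop := by
      rw [Scheme.Opens.topIso_inv, Scheme.Hom.appTop, Scheme.Hom.app_eq_appLE, ← Scheme.Hom.appLE_comp_appLE
        i₁ A.ι A ⊤ ⊤ (by rw [Scheme.Opens.ι_preimage_self]) le_top]
      congr 1
      simp [Scheme.Opens.ι_appLE]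
      rfl
    rw [e2]
    exact (ConcreteCategory.congr_hom e1 (A.topIso.inv e)).symm
  have hmul : kc * ke = 1 := by
    rw [hkc, hke, ← map_mul]
    have hc' : (i₁ ≫ A.ι).appLE B ⊤ hB c = (i₁ ≫ A.ι).appLE D ⊤ hD (res inf_le_right c) := by
      rw [← Scheme.Hom.map_appLE _ hD (homOfLE (inf_le_right : D ≤ B)).op]
      rfl
    have he' : (i₁ ≫ A.ι).appLE A ⊤ hA e = (i₁ ≫ A.ι).appLE D ⊤ hD (res inf_le_left e) := by
      rw [← Scheme.Hom.map_appLE _ hD (homOfLE (inf_le_left : D ≤ A)).op]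
      rfl
    rw [hc', he', ← map_mul, hce, map_one, map_one]
  have hu : IsUnit (ψ c) := IsUnit.of_mul_eq_one (φ (A.topIso.inv e)) (IsFractionRing.injective R K (by
    rw [map_mul, map_one]
    exact hmul))
  have hu' : IsUnit (l.appLE B ⊤ hlB c) := by
    have := hu.map (Scheme.ΓSpecIso (.of R)).inv.hom
    rwa [show (Scheme.ΓSpecIso (.of R)).inv.hom (ψ c) = l.appLE B ⊤ hlB c from
      ConcreteCategory.congr_hom (Scheme.ΓSpecIso (.of R)).hom_inv_id (l.appLE B ⊤ hlB c)] at this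
  have h3 : (IsLocalRing.closedPoint R : Spec (CommRingCat.of R)) ∈ l ⁻¹ᵁ X.basicOpen c := by
    have h4 : (Spec (CommRingCat.of R)).basicOpen (l.appLE B ⊤ hlB c) ≤ l ⁻¹ᵁ X.basicOpen c := by
      rw [Scheme.basicOpen_appLE]
      exact inf_le_right
    exact h4 (((Spec (CommRingCat.of R)).basicOpen_of_isUnit hu').ge trivial)
  exact ((glocus_inf α hβ).ge h3).1

/-- Over an affine base, loci of sections of an ample module on a universally closed scheme are affine. -/
theorem isAffineOpen_glocus_of_universallyClosed [IsAffine S] (g : X ⟶ S) [UniversallyClosed g]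
    (hL : CohB1.IsAmple L) (a : Γ(L, ⊤)) : IsAffineOpen (glocus L a) := by
  obtain ⟨hLi, hc, haff⟩ := isAmple_iff_affGlocus.1 hL
  have := hc
  haveI := quasiSeparatedSpace_of_affGlocus hLi haff
  let A := glocus L a
  haveI : IsAffineHom A.ι := isAffineHom_glocus_ι hLi a
  haveI : CompactSpace A.toScheme := QuasiCompact.compactSpace_of_compactSpace A.ι
  -- the locus is quasi-affine
  haveI hqa : Scheme.IsQuasiAffine A.toScheme := by
    refine Scheme.IsQuasiAffine.of_forall_exists_mem_basicOpen _ fun z => ?_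
    obtain ⟨m, hm, b, hzb, -, hb⟩ := haff z.1
    have hgen : IsGen _ A (powSec (resM L le_top a) m) := isGen_powSec (isGen_glocus a) m
    let r : Γ(X, A) := hgen.coef le_rfl (resM _ le_top b)
    have h1 : glocus _ b ⊓ A = X.basicOpen r := glocus_inf b hgen
    refine ⟨A.topIso.inv r, ?_, ?_⟩
    · rw [← A.ι.isAffineOpen_iff_of_isOpenImmersion]
      have h2 : A.ι ''ᵁ A.toScheme.basicOpen (A.topIso.inv r) = X.basicOpen r := by
        exact A.ι_image_basicOpen_topIso_inv r
      rw [h2, ← h1, inf_comm]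
      exact isAffineOpen_glocus_inf hLi a hb
    · have h2 : A.toScheme.basicOpen (A.topIso.inv r) = A.ι ⁻¹ᵁ X.basicOpen r := by
        rw [← A.ι_image_basicOpen_topIso_inv r, A.ι.preimage_image_eq]
      rw [h2]
      exact h1.le ⟨hzb, z.2⟩
  suffices IsAffine A.toScheme from this
  haveI hsp : SpecializingMap A.toScheme.toSpecΓ := by
    refine ValuativeCriterion.Existence.specializingMap _ fun Sq => ?_
    obtain ⟨φ, hφ⟩ := Spec.map_surjective Sq.i₂
    let q : A.toScheme ⟶ S := A.ι ≫ g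
    let i₂' : Spec (CommRingCat.of Sq.R) ⟶ S := Sq.i₂ ≫ Spec.map q.appTop ≫ S.isoSpec.inv
    have hsq : (Sq.i₁ ≫ A.ι) ≫ g = Spec.map (CommRingCat.ofHom (algebraMap Sq.R Sq.K)) ≫ i₂' := by
      simp only [i₂', ← reassoc_of% Sq.commSq.w, Category.assoc]
      congr 1
      rw [← cancel_mono S.toSpecΓ]
      simp only [Category.assoc, Scheme.isoSpec, asIso_inv, IsIso.inv_hom_id, Category.comp_id]
      exact (Category.assoc _ _ _).symm.trans (Scheme.toSpecΓ_naturality q)
    have hex : ValuativeCriterion.Existence g := by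
      have h : UniversallyClosed g := inferInstance
      rw [UniversallyClosed.eq_valuativeCriterion] at h
      exact h.1
    obtain ⟨l, hl₁, -⟩ := (hex { R := Sq.R, K := Sq.K, commSq := ⟨hsq⟩, .. }).exists_lift
    dsimp only at hl₁
    obtain ⟨m, hm, b, hxb, -, -⟩ := haff (l (IsLocalRing.closedPoint Sq.R))
    obtain ⟨k, rfl⟩ : ∃ k, m = k + 1 := ⟨m - 1, by omega⟩
    have hx : l (IsLocalRing.closedPoint Sq.R) ∈ A := by
      have hAeq : glocus (CohB1.tensorPow L (k + 1)) (powSec a (k + 1)) = A := glocus_powSec hLi a k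
      have key : ∀ (B : X.Opens) (_ : B = A) (j₁ : Spec (CommRingCat.of Sq.K) ⟶ B.toScheme),
          j₁ ≫ B.ι = Sq.i₁ ≫ A.ι → ∃ φ' : Γ(B.toScheme, ⊤) ⟶ CommRingCat.of Sq.R,
            j₁ ≫ B.toScheme.toSpecΓ = Spec.map (CommRingCat.ofHom (algebraMap Sq.R Sq.K)) ≫ Spec.map φ' := by
        rintro B rfl j₁ hj
        rw [cancel_mono] at hj
        exact ⟨φ, by rw [hj, hφ]; exact Sq.commSq.w⟩
      let A' := glocus (CohB1.tensorPow L (k + 1)) (powSec a (k + 1))
      let j₁ : Spec (CommRingCat.of Sq.K) ⟶ A'.toScheme := Sq.i₁ ≫ (X.isoOfEq hAeq.symm).hom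
      have hj : j₁ ≫ A'.ι = Sq.i₁ ≫ A.ι := by simp [j₁, A']
      obtain ⟨φ', hφ'⟩ := key A' hAeq j₁ hj
      exact hAeq.le (mem_glocus_of_valuationRing (powSec a (k + 1)) b l j₁ φ' (by rw [hj]; exact hl₁) hφ' hxb)
    have hrange : Set.range l ⊆ Set.range A.ι := by
      rw [Scheme.Opens.range_ι]
      rintro _ ⟨z, rfl⟩
      exact ((IsLocalRing.specializes_closedPoint z).map l.continuous).mem_open A.2 hx
    have h1 : Spec.map (CommRingCat.ofHom (algebraMap Sq.R Sq.K)) ≫ IsOpenImmersion.lift A.ι l hrange = Sq.i₁ := by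
      rw [← cancel_mono A.ι, Category.assoc, IsOpenImmersion.lift_fac]
      exact hl₁
    refine CommSq.HasLift.mk' ⟨IsOpenImmersion.lift A.ι l hrange, h1, ?_⟩
    refine ValExtLib.hom_ext_of_generic (CommRingCat.ofHom (algebraMap Sq.R Sq.K))
      (IsFractionRing.injective Sq.R Sq.K) ?_
    rw [reassoc_of% h1]
    exact Sq.commSq.w
  have hcl : IsClosed (Set.range A.toScheme.toSpecΓ) := by
    have := ((isClosedMap_iff_specializingMap A.toScheme.toSpecΓ).2 hsp) _ isClosed_univ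
    rwa [Set.image_univ] at this
  haveI : Surjective A.toScheme.toSpecΓ := surjective_of_isDominant_of_isClosed_range _ hcl
  haveI : Epi A.toScheme.toSpecΓ.base :=
    (TopCat.epi_iff_surjective _).2 A.toScheme.toSpecΓ.surjective
  exact ⟨IsOpenImmersion.isIso A.toScheme.toSpecΓ⟩

/-- Loci of sections of a relatively ample module are affine over the base for universally closed morphisms. -/
theorem isAffineHom_genLocus_ι_comp (f : X ⟶ S) [UniversallyClosed f] (hL : RelAmple.IsRelAmple f L)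
    (s : Coh.structureModule X ⟶ L) : IsAffineHom ((CohB1.genLocus L s).ι ≫ f) := by
  have hLi := isInvertible_of_isRelAmple f hL
  rw [AmpleLib.isRelAmple_iff] at hL
  rw [genLocus_eq_glocus]
  refine ⟨fun V hV => ?_⟩
  let G := glocus L (unitVal s ⊤)
  let W := f ⁻¹ᵁ V
  haveI : IsAffine V.toScheme := hV
  haveI : UniversallyClosed (f ∣_ V) := IsZariskiLocalAtTarget.restrict ‹_› _
  have h1 := isAffineOpen_glocus_of_universallyClosed (f ∣_ V) (hL.2 ⟨V, hV⟩) (pullSec W.ι (unitVal s ⊤))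
  have h2 : glocus ((Scheme.Modules.pullback W.ι).obj L) (pullSec W.ι (unitVal s ⊤)) = W.ι ⁻¹ᵁ G :=
    glocus_pullSec W.ι hLi _
  rw [← G.ι.isAffineOpen_iff_of_isOpenImmersion, Scheme.Hom.comp_preimage,
    Scheme.Hom.image_preimage_eq_opensRange_inf, Scheme.Opens.opensRange_ι]
  have h3 := (W.ι.isAffineOpen_iff_of_isOpenImmersion).2 (h2 ▸ h1)
  rw [Scheme.Hom.image_preimage_eq_opensRange_inf, Scheme.Opens.opensRange_ι] at h3
  rwa [inf_comm]

end closed

section embedding

/-- A quasi-affine scheme of finite type over a base embeds in an affine space over it. -/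
theorem exists_immersion_affineSpace (π : X ⟶ S) [LocallyOfFiniteType π] [X.IsQuasiAffine] :
    ∃ (n : ℕ) (i : X ⟶ 𝔸(ULift.{u} (Fin n); S)), IsImmersion i ∧ i ≫ (𝔸(ULift.{u} (Fin n); S) ↘ S) = π := by
  classical
  have key : ∀ x : X, ∃ (g : Γ(X, ⊤)) (W : S.Opens) (hle : X.basicOpen g ≤ π ⁻¹ᵁ W) (F : Finset Γ(X, ⊤)),
      x ∈ X.basicOpen g ∧ IsAffineOpen (X.basicOpen g) ∧ IsAffineOpen W ∧
      ∀ T : Subring Γ(X, X.basicOpen g), (∀ a, π.appLE W _ hle a ∈ T) →
        (∀ a ∈ F, res (le_top : X.basicOpen g ≤ ⊤) a ∈ T) →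
        (∀ w, w * res (le_top : X.basicOpen g ≤ ⊤) g = 1 → w ∈ T) → T = ⊤ := by
    intro x
    obtain ⟨W, hW, hxW, -⟩ := exists_isAffineOpen_mem_and_subset (x := π x) (U := (⊤ : S.Opens)) trivial
    obtain ⟨_, ⟨g, hg, rfl⟩, hxg, hgW⟩ :=
      Opens.isBasis_iff_nbhd.1 (Scheme.IsQuasiAffine.isBasis_basicOpen X) (show x ∈ π ⁻¹ᵁ W from hxW)
    have hft := π.finiteType_appLE hW hg hgW
    letI := (π.appLE W (X.basicOpen g) hgW).hom.toAlgebra
    obtain ⟨s, hs⟩ := (hft : Algebra.FiniteType Γ(S, W) Γ(X, X.basicOpen g)).out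
    have hloc := isLocalization_basicOpen_of_qcqs (X := X) (U := ⊤) isCompact_univ isQuasiSeparated_univ g
    have hnum : ∀ b : Γ(X, X.basicOpen g), ∃ (a : Γ(X, ⊤)) (k : ℕ),
        b * res (le_top : X.basicOpen g ≤ ⊤) g ^ k = res (le_top : X.basicOpen g ≤ ⊤) a := fun b => by
      obtain ⟨⟨a, ⟨_, k, rfl⟩⟩, h⟩ := IsLocalization.surj (Submonoid.powers g) b
      refine ⟨a, k, ?_⟩
      rw [← map_pow]
      exact h
    choose num k hnum using hnum
    refine ⟨g, W, hgW, s.image num, hxg, hg, hW, fun T h1 h2 h3 => ?_⟩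
    obtain ⟨w, hw⟩ : ∃ w, w * res (le_top : X.basicOpen g ≤ ⊤) g = 1 :=
      (X.toLocallyRingedSpace.toRingedSpace.isUnit_res_basicOpen g).exists_left_inv
    rw [eq_top_iff, ← Algebra.top_toSubring (R := Γ(S, W)) (A := Γ(X, X.basicOpen g)), ← hs,
      Algebra.adjoin_eq_ring_closure, Subring.closure_le]
    rintro b (⟨a, rfl⟩ | hb)
    · exact h1 a
    · have : b = res (le_top : X.basicOpen g ≤ ⊤) (num b) * w ^ k b := by
        rw [← hnum, mul_assoc, ← mul_pow, mul_comm _ w, hw, one_pow, mul_one]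
      rw [SetLike.mem_coe, this]
      exact T.mul_mem (h2 _ (Finset.mem_image.2 ⟨b, hb, rfl⟩)) (pow_mem (h3 w hw) _)
  choose g W hle F hxg hga hW hgen using key
  obtain ⟨t, ht⟩ := isCompact_univ.elim_finite_subcover (fun x => (X.basicOpen (g x) : Set X))
    (fun x => (X.basicOpen (g x)).2) fun x _ => Set.mem_iUnion.2 ⟨x, hxg x⟩
  let all : Finset Γ(X, ⊤) := t.biUnion fun x => insert (g x) (F x)
  let e := Fintype.equivFin {a // a ∈ all}
  let v : ULift.{u} (Fin (Fintype.card {a // a ∈ all})) → Γ(X, ⊤) := fun j => (e.symm j.down).1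
  let i := AffineSpace.homOfVector π v
  have hi : i ≫ (𝔸(ULift.{u} (Fin (Fintype.card {a // a ∈ all})); S) ↘ S) = π := AffineSpace.homOfVector_over _ _
  refine ⟨_, i, ?_, hi⟩
  let pr := 𝔸(ULift.{u} (Fin (Fintype.card {a // a ∈ all})); S) ↘ S
  let j : {x // x ∈ t} → ULift.{u} (Fin (Fintype.card {a // a ∈ all})) := fun x =>
    ⟨e ⟨g x.1, Finset.mem_biUnion.2 ⟨x.1, x.2, Finset.mem_insert_self _ _⟩⟩⟩
  let P := 𝔸(ULift.{u} (Fin (Fintype.card {a // a ∈ all})); S)
  let c : {x // x ∈ t} → Γ(P, ⊤) := fun x => AffineSpace.coord S (j x)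
  let V : {x // x ∈ t} → P.Opens := fun x => P.basicOpen (res (le_top : pr ⁻¹ᵁ W x.1 ≤ ⊤) (c x))
  have hV : ∀ x, IsAffineOpen (V x) := fun x => ((hW x.1).preimage pr).basicOpen _
  have hVle : ∀ x, V x ≤ pr ⁻¹ᵁ W x.1 := fun x => P.basicOpen_le _
  have hc : ∀ x, i.appTop (c x) = g x.1 := fun x => by
    simp only [c, i, AffineSpace.homOfVector_appTop_coord, v, j, Equiv.symm_apply_apply]
  have hVeq : ∀ x, V x = pr ⁻¹ᵁ W x.1 ⊓ P.basicOpen (c x) := fun x => P.basicOpen_res _ _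
  have hpre : ∀ x, i ⁻¹ᵁ V x = X.basicOpen (g x.1) := fun x => by
    rw [hVeq, Scheme.Hom.preimage_inf, ← Scheme.Hom.comp_preimage, hi, Scheme.preimage_basicOpen]
    show π ⁻¹ᵁ W x.1 ⊓ X.basicOpen (i.appTop (c x)) = _
    rw [hc, inf_eq_right]
    exact hle x.1
  refine PnEmb.isImmersion_of_charts i V hV (fun x => (hpre x).symm ▸ hga x.1) (fun x => ?_) (fun y => ?_)
  · have key : ∀ U : X.Opens, U = X.basicOpen (g x.1) → ∀ hU : U ≤ i ⁻¹ᵁ V x,
        (⊤ : Subring Γ(X, U)) ≤ (i.appLE (V x) U hU).hom.range := by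
      rintro U rfl hU
      have hres : ∀ a : Γ(P, ⊤), i.appLE (V x) _ hU (res le_top a) = res le_top (i.appTop a) := fun a => by
        show (P.presheaf.map _ ≫ i.appLE (V x) _ hU) a = (i.appTop ≫ X.presheaf.map _) a
        rw [Scheme.Hom.map_appLE, Scheme.Hom.appTop, Scheme.Hom.app_eq_appLE]
        exact (ConcreteCategory.congr_hom (i.appLE_map le_rfl (homOfLE le_top).op) a).symm
      refine (hgen x.1 (i.appLE (V x) _ hU).hom.range (fun a => ⟨pr.appLE (W x.1) (V x) (hVle x) a, ?_⟩) (fun a ha => ?_)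
        fun w hw => ?_).ge
      · show (pr.appLE (W x.1) (V x) (hVle x) ≫ i.appLE (V x) _ hU) a = π.appLE (W x.1) _ (hle x.1) a
        rw [Scheme.Hom.appLE_comp_appLE]
        simp only [pr, hi]
      · let ja : ULift.{u} (Fin (Fintype.card {a // a ∈ all})) :=
          ⟨e ⟨a, Finset.mem_biUnion.2 ⟨x.1, x.2, Finset.mem_insert_of_mem ha⟩⟩⟩
        refine ⟨res le_top (AffineSpace.coord S ja), (hres _).trans ?_⟩
        simp only [i, AffineSpace.homOfVector_appTop_coord, v, ja, Equiv.symm_apply_apply]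
      · have hu : IsUnit (res (le_top : V x ≤ ⊤) (c x)) := by
          have := P.toLocallyRingedSpace.toRingedSpace.isUnit_res_basicOpen (res (le_top : pr ⁻¹ᵁ W x.1 ≤ ⊤) (c x))
          rwa [← res_res (le_top : pr ⁻¹ᵁ W x.1 ≤ ⊤) (hVle x)]
        obtain ⟨d, hd⟩ := hu.exists_left_inv
        refine ⟨d, left_inv_eq_right_inv (a := res (le_top : X.basicOpen (g x.1) ≤ ⊤) (g x.1)) ?_ (by rwa [mul_comm])⟩
        show i.appLE (V x) _ hU d * res le_top (g x.1) = 1
        rw [← congrArg (res (le_top : X.basicOpen (g x.1) ≤ ⊤)) (hc x), ← hres, ← map_mul, hd, map_one]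
    intro z
    obtain ⟨d, hd⟩ := key _ (hpre x) le_rfl (Subring.mem_top z)
    exact ⟨d, by rw [← hd, Scheme.Hom.app_eq_appLE]⟩
  · obtain ⟨x, hxt, hyx⟩ := Set.mem_iUnion₂.1 (ht (Set.mem_univ (y : X)))
    exact ⟨⟨x, hxt⟩, (hpre ⟨x, hxt⟩).ge hyx⟩

end embedding

end Groth.Agent.MorProj
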