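import Groth.Agent.Props12.FinLocFree
import Groth.Agent.AmpleLib.Relative2
import Groth.Prelude.Def_Mor2
import Mathlib.AlgebraicGeometry.ValuativeCriterion

/-!
# Finite locally free morphisms; separatedness from relative ampleness
-/

set_option autoImplicit false
set_option linter.unusedSectionVars false
set_option backward.isDefEq.respectTransparency.types false
set_option maxHeartbeats 1000000

universe u

open AlgebraicGeometry CategoryTheory CategoryTheory.Limits TopologicalSpace Opposite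
open Groth.Agent.Coherent

namespace Groth.Agent.MorProj

variable {X S : Scheme.{u}} (f : X ⟶ S)

/-- The pushforward of the structure sheaf. -/
noncomputable abbrev pushO : S.Modules := (Scheme.Modules.pushforward f).obj (Coh.structureModule X)

/-- Sections of the pushforward as an algebra. -/
theorem sections_linearEquiv (W : S.Opens) :
    letI := (f.app W).hom.toAlgebra
    Nonempty (Γ(X, f ⁻¹ᵁ W) ≃ₗ[Γ(S, W)] Γ(pushO f, W)) :=
  letI := (f.app W).hom.toAlgebra
  ⟨{ toFun := fun x => x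
     invFun := fun x => x
     left_inv := fun _ => rfl
     right_inv := fun _ => rfl
     map_add' := fun _ _ => rfl
     map_smul' := fun _ _ => rfl }⟩

theorem isFinLocFree_of_isAffineHom [IsAffineHom f] (h : FlatMod.IsFinLocFree (pushO f)) : Mor2.IsFinLocFree f := by
  haveI : Coh.IsQCoh (Coh.structureModule X) := isQCoh_structureModule (X := X)
  haveI : Coh.IsQCoh (pushO f) := isQCoh_push f _
  have key : ∀ W : S.Opens, IsAffineOpen W →
      (f.app W).hom.Finite ∧ (f.app W).hom.Flat ∧ (f.app W).hom.FinitePresentation := fun W hW => by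
    letI := (f.app W).hom.toAlgebra
    obtain ⟨l⟩ := sections_linearEquiv f W
    have hfp := EGA43.QcohFP.finitePresentation_sections (pushO f) (Props12.isFP_of_isFinLocFree _ h) hW
    have hfl := Props12.flat_sections_of_isFlat (pushO f) (Props12.isFlat_of_isFinLocFree _ h) hW
    haveI : Module.FinitePresentation Γ(S, W) Γ(X, f ⁻¹ᵁ W) := Module.FinitePresentation.of_equiv l.symm
    haveI : Module.Flat Γ(S, W) Γ(X, f ⁻¹ᵁ W) := Module.Flat.of_linearEquiv l
    exact ⟨inferInstanceAs (Module.Finite Γ(S, W) Γ(X, f ⁻¹ᵁ W)), inferInstanceAs (Module.Flat Γ(S, W) Γ(X, f ⁻¹ᵁ W)),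
      (Algebra.FinitePresentation.of_finitePresentation Γ(S, W) Γ(X, f ⁻¹ᵁ W) :)⟩
  have hle : ∀ (U : S.affineOpens) (V : X.affineOpens) (e : V.1 ≤ f ⁻¹ᵁ U.1),
      f.appLE U V e = f.app U ≫ (𝟙 X : X ⟶ X).appLE (f ⁻¹ᵁ U.1) V e := fun U V e => by
    rw [Scheme.Hom.app_eq_appLE, Scheme.Hom.appLE_comp_appLE]
    simp only [Category.id_comp]
  refine ⟨⟨fun W hW => (key W hW).1⟩, ?_, ?_⟩
  · rw [HasRingHomProperty.iff_appLE (P := @Flat)]
    intro U V e
    rw [hle U V e]
    exact (key U.1 U.2).2.1.comp (Scheme.Hom.flat_appLE (𝟙 X) (U.2.preimage f) V.2 e)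
  · rw [HasRingHomProperty.iff_appLE (P := @LocallyOfFinitePresentation)]
    intro U V e
    rw [hle U V e]
    exact ((HasRingHomProperty.iff_appLE (P := @LocallyOfFinitePresentation) (f := 𝟙 X)).1 inferInstance
      ⟨_, U.2.preimage f⟩ V e).comp (key U.1 U.2).2.2

theorem finLocFree_pushforward_of_isFinLocFree (h : Mor2.IsFinLocFree f) :
    IsAffineHom f ∧ FlatMod.IsFinLocFree (pushO f) := by
  obtain ⟨hfin, hflat, hlfp⟩ := h
  haveI := hfin
  haveI : Coh.IsQCoh (Coh.structureModule X) := isQCoh_structureModule (X := X)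
  haveI : Coh.IsQCoh (pushO f) := isQCoh_push f _
  have key : ∀ W : S.Opens, IsAffineOpen W →
      Module.FinitePresentation Γ(S, W) Γ(pushO f, W) ∧ Module.Flat Γ(S, W) Γ(pushO f, W) := fun W hW => by
    letI := (f.app W).hom.toAlgebra
    obtain ⟨l⟩ := sections_linearEquiv f W
    haveI : Module.Finite Γ(S, W) Γ(X, f ⁻¹ᵁ W) := IsFinite.finite_app (f := f) W hW
    have h1 := f.flat_appLE hW (hW.preimage f) le_rfl
    rw [← f.app_eq_appLE] at h1
    haveI : Module.Flat Γ(S, W) Γ(X, f ⁻¹ᵁ W) := h1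
    have h2 := (HasRingHomProperty.iff_appLE (P := @LocallyOfFinitePresentation) (f := f)).1 hlfp ⟨W, hW⟩
      ⟨_, hW.preimage f⟩ le_rfl
    rw [← f.app_eq_appLE] at h2
    haveI : Algebra.FinitePresentation Γ(S, W) Γ(X, f ⁻¹ᵁ W) := h2
    haveI := Module.FinitePresentation.of_finite_of_finitePresentation Γ(S, W) Γ(X, f ⁻¹ᵁ W)
    exact ⟨Module.FinitePresentation.of_equiv l, Module.Flat.of_linearEquiv l.symm⟩
  have hFP : CohB1.IsFP (pushO f) := EGA43.FPKernel.isFP_of_forall_exists_affine _ fun x => by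
    obtain ⟨W, hW, hxW, -⟩ := exists_isAffineOpen_mem_and_subset (x := x) (U := (⊤ : S.Opens)) trivial
    exact ⟨W, hW, hxW, (key W hW).1⟩
  refine ⟨inferInstance, Props12.isFinLocFree_of_isFP_of_free_stalks _ hFP fun x => ?_⟩
  obtain ⟨W, hW, hxW, -⟩ := exists_isAffineOpen_mem_and_subset (x := x) (U := (⊤ : S.Opens)) trivial
  haveI := (key W hW).2
  haveI := Props12.flat_stalk_of_flat_sections (pushO f) hW hxW
  haveI := hFP
  have hFT : CohB1.IsFT (pushO f) := inferInstance
  haveI := Props12.finite_stalk_of_isFT (pushO f) hFT x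
  exact Module.free_of_flat_of_isLocalRing

/-- A morphism with a relatively ample module is separated. -/
theorem isSeparated_of_isRelAmple (L : X.Modules) (hL : RelAmple.IsRelAmple f L) : IsSeparated f := by
  rw [AmpleLib.isRelAmple_iff] at hL
  haveI := hL.1
  haveI : QuasiSeparated f := by
    refine IsZariskiLocalAtTarget.of_iSup_eq_top (fun V : S.affineOpens => V.1)
      (iSup_affineOpens_eq_top S) fun V => ?_
    haveI : IsAffine V.1.toScheme := V.2
    obtain ⟨hi, hc, h⟩ := AmpleLib.isAmple_iff_affGlocus.1 (hL.2 V)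
    haveI := hc
    haveI := AmpleLib.quasiSeparatedSpace_of_affGlocus hi h
    exact QuasiSeparated.of_quasiSeparatedSpace _
  refine IsSeparated.of_valuativeCriterion f fun Sq => ⟨fun l₁ l₂ => ?_⟩
  let c : Spec (CommRingCat.of Sq.R) := IsLocalRing.closedPoint Sq.R
  obtain ⟨V, hV, hyV, -⟩ := exists_isAffineOpen_mem_and_subset (x := Sq.i₂ c) (U := (⊤ : S.Opens)) trivial
  have hmem : ∀ l : Sq.commSq.LiftStruct, l.l c ∈ f ⁻¹ᵁ V := fun l => by
    show f (l.l c) ∈ V
    rw [← Scheme.Hom.comp_apply, l.fac_right]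
    exact hyV
  obtain ⟨m, -, b, hb, -, hba⟩ := AmpleLib.exists_affine_glocus_finite (U := ⊤) (hL.2 ⟨V, hV⟩)
    {⟨l₁.l c, hmem l₁⟩, ⟨l₂.l c, hmem l₂⟩} (Set.toFinite _) (fun _ _ => trivial)
  let A := (f ⁻¹ᵁ V).ι ''ᵁ (AmpleLib.glocus _ b)
  have hA : IsAffineOpen A := hba.image_of_isOpenImmersion _
  haveI : IsAffine A.toScheme := hA
  have hr : ∀ l : Sq.commSq.LiftStruct, l.l c ∈ A → Set.range l.l ⊆ Set.range A.ι := fun l hl => by
    rw [Scheme.Opens.range_ι]
    rintro _ ⟨z, rfl⟩
    exact ((IsLocalRing.specializes_closedPoint z).map l.l.continuous).mem_open A.2 hl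
  have h₁ : l₁.l c ∈ A := ⟨⟨l₁.l c, hmem l₁⟩, hb (Set.mem_insert _ _), rfl⟩
  have h₂ : l₂.l c ∈ A := ⟨⟨l₂.l c, hmem l₂⟩, hb (Set.mem_insert_of_mem _ rfl), rfl⟩
  let g := CommRingCat.ofHom (algebraMap Sq.R Sq.K)
  haveI : IsDominant (Spec.map g) := ⟨PrimeSpectrum.denseRange_comap_iff_ker_le_nilRadical _ |>.mpr
    (((RingHom.injective_iff_ker_eq_bot _).mp (IsFractionRing.injective Sq.R Sq.K)).le.trans bot_le)⟩
  have key : IsOpenImmersion.lift A.ι l₁.l (hr l₁ h₁) = IsOpenImmersion.lift A.ι l₂.l (hr l₂ h₂) := by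
    refine ext_of_isDominant (Spec.map g) ?_
    rw [← cancel_mono A.ι, Category.assoc, Category.assoc, IsOpenImmersion.lift_fac, IsOpenImmersion.lift_fac]
    exact l₁.fac_left.trans l₂.fac_left.symm
  have := congrArg (· ≫ A.ι) key
  simp only [IsOpenImmersion.lift_fac] at this
  exact CommSq.LiftStruct.ext this

end Groth.Agent.MorProj
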