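import Groth.Agent.SchMor12.ClosedImmersionNhd
import Groth.Agent.SmoothLib.FibreMap
import Mathlib.AlgebraicGeometry.ZariskisMainTheorem
import Mathlib.AlgebraicGeometry.Morphisms.FormallyUnramified
import Mathlib.AlgebraicGeometry.FunctionField

/-!
# Proper morphisms that are finite or closed immersions near a fibre
-/

set_option autoImplicit false
set_option linter.unusedSectionVars false
set_option backward.isDefEq.respectTransparency.types false
set_option maxHeartbeats 1000000

universe u

open AlgebraicGeometry CategoryTheory CategoryTheory.Limits TopologicalSpace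

namespace Groth.Agent.MorProj

variable {X Y S : Scheme.{u}}

theorem finite_preimage_of_isFinite (f : X ⟶ Y) {V : Y.Opens} [IsFinite (f ∣_ V)] {y : Y} (hy : y ∈ V) :
    (f ⁻¹' {y}).Finite := by
  refine (((f ∣_ V).finite_preimage_singleton ⟨y, hy⟩).image (fun z => z.1)).subset ?_
  intro x (hx : f x = y)
  refine ⟨⟨x, show f x ∈ V from hx ▸ hy⟩, Subtype.ext ?_, rfl⟩
  rw [morphismRestrict_base]
  exact hx

/-- Opens over which a property local on the target holds. -/
theorem restrict_sSup (P : MorphismProperty Scheme.{u}) [IsZariskiLocalAtTarget P] (f : X ⟶ Y)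
    (G : Set Y.Opens) (hG : ∀ V ∈ G, P (f ∣_ V)) : P (f ∣_ sSup G) := by
  rw [IsZariskiLocalAtTarget.iff_of_iSup_eq_top (P := P) (fun V : G => (sSup G).ι ⁻¹ᵁ V.1) (by
    refine top_le_iff.1 fun z _ => ?_
    obtain ⟨V, hV, hz⟩ := Opens.mem_sSup.1 z.2
    exact Opens.mem_iSup.2 ⟨⟨V, hV⟩, hz⟩)]
  intro V
  refine (P.arrow_mk_iso_iff (morphismRestrictRestrict f (sSup G) ((sSup G).ι ⁻¹ᵁ V.1))).2 ?_
  rw [Scheme.Hom.image_preimage_eq_opensRange_inf, Scheme.Opens.opensRange_ι, inf_eq_right.2 (le_sSup V.2)]
  exact hG V.1 V.2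

theorem restrict_of_le (P : MorphismProperty Scheme.{u}) [IsZariskiLocalAtTarget P] (f : X ⟶ Y)
    {W G : Y.Opens} (hWG : W ≤ G) (h : P (f ∣_ G)) : P (f ∣_ W) := by
  have h2 := (P.arrow_mk_iso_iff (morphismRestrictRestrict f G (G.ι ⁻¹ᵁ W))).1
    (IsZariskiLocalAtTarget.restrict h _)
  rwa [Scheme.Hom.image_preimage_eq_opensRange_inf, Scheme.Opens.opensRange_ι, inf_eq_right.2 hWG] at h2

/-- The points with finite fibre of a proper morphism form an open over which it is finite. -/
theorem exists_finite_fibre_locus (f : X ⟶ Y) [IsProper f] :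
    ∃ U : Y.Opens, (U : Set Y) = {y : Y | (f.base ⁻¹' {y}).Finite} ∧ IsFinite (f ∣_ U) := by
  refine ⟨sSup {V | IsFinite (f ∣_ V)}, Set.ext fun y => ⟨fun h => ?_, fun h => ?_⟩,
    restrict_sSup @IsFinite f _ fun V hV => hV⟩
  · obtain ⟨V, hV, hy⟩ := Opens.mem_sSup.1 h
    haveI : IsFinite (f ∣_ V) := hV
    exact finite_preimage_of_isFinite f hy
  · obtain ⟨V, hy, hV⟩ := exists_isFinite_morphismRestrict_of_finite_preimage_singleton f y h
    exact Opens.mem_sSup.2 ⟨V, hV, hy⟩

/-- An open containing a fibre of a closed map contains the preimage of a neighbourhood. -/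
theorem exists_nhd_preimage_le (h : Y ⟶ S) [IsProper h] (s : S) (G : Y.Opens) (hG : h ⁻¹' {s} ⊆ G) :
    ∃ U : S.Opens, s ∈ U ∧ h ⁻¹ᵁ U ≤ G := by
  refine ⟨⟨(h '' (G : Set Y)ᶜ)ᶜ, (h.isClosedMap _ G.2.isClosed_compl).isOpen_compl⟩, ?_, ?_⟩
  · rintro ⟨y, hy, hys⟩
    exact hy (hG hys)
  · intro y hy
    by_contra hn
    exact hy ⟨y, hn, rfl⟩

/-- A closed immersion into the spectrum of a field is empty or an isomorphism. -/
theorem isEmpty_or_isIso_of_isClosedImmersion {Z : Scheme.{u}} {K : CommRingCat.{u}} (hK : IsField K) (φ : Z ⟶ Spec K)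
    [IsClosedImmersion φ] : IsEmpty Z ∨ IsIso φ := by
  rcases isEmpty_or_nonempty Z with h | h
  · exact Or.inl h
  letI : Field K := hK.toField
  have : Nonempty (⊤ : Z.Opens) := ⟨⟨Classical.arbitrary _, trivial⟩⟩
  have : Nontrivial Γ(Z, ⊤) := Z.component_nontrivial ⊤
  exact Or.inr (IsClosedImmersion.isIso_of_injective_of_isAffine
    ((show Function.Injective (φ.appTop.hom ∘ (Scheme.ΓSpecIso K).inv.hom) from
      RingHom.injective (φ.appTop.hom.comp (Scheme.ΓSpecIso K).inv.hom)).of_comp_right
      (ConcreteCategory.bijective_of_isIso (Scheme.ΓSpecIso K).inv).2))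

section relative

variable (f : X ⟶ Y) (h : Y ⟶ S) (s : S)

/-- Fibres of `f` over points over `s` are base changes of the map of fibres over `s`. -/
theorem fiber_isPullback_fiberMapOver (y : Y) (hy : h y = s) :
    ∃ (l : Spec (Y.residueField y) ⟶ h.fiber s) (m : f.fiber y ⟶ (f ≫ h).fiber s),
      IsPullback m (f.fiberToSpecResidueField y) (CohIII.fiberMapOver f (f ≫ h) h rfl s) l := by
  subst hy
  let l : Spec (Y.residueField y) ⟶ h.fiber (h y) := pullback.lift (Y.fromSpecResidueField y)
    (Spec.map (h.residueFieldMap y)) (Scheme.Hom.SpecMap_residueFieldMap_fromSpecResidueField h y).symm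
  have hl : l ≫ h.fiberι (h y) = Y.fromSpecResidueField y := pullback.lift_fst _ _ _
  have sq := SmoothLib.isPullback_fiberMapOver f h (h y)
  have big : IsPullback (f.fiberι y) (f.fiberToSpecResidueField y) f (l ≫ h.fiberι (h y)) := by
    rw [hl]; exact IsPullback.of_hasPullback _ _
  let m := sq.lift (f.fiberι y) (f.fiberToSpecResidueField y ≫ l) (big.w.trans (Category.assoc _ _ _).symm)
  refine ⟨l, m, IsPullback.of_right ?_ (sq.lift_snd _ _ _) sq⟩
  rw [sq.lift_fst]
  exact big

theorem exists_isFinite_nhd [IsProper (f ≫ h)] [IsProper h]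
    (hfin : IsFinite (CohIII.fiberMapOver f (f ≫ h) h rfl s)) :
    ∃ U : S.Opens, s ∈ U ∧ IsFinite (f ∣_ (h ⁻¹ᵁ U)) := by
  haveI : IsProper f := .of_comp f h
  obtain ⟨G, hG, hGf⟩ := exists_finite_fibre_locus f
  have hsub : h ⁻¹' {s} ⊆ G := fun y hy => by
    rw [hG]
    obtain ⟨l, m, hm⟩ := fiber_isPullback_fiberMapOver f h s y hy
    haveI : IsFinite (f.fiberToSpecResidueField y) := MorphismProperty.of_isPullback hm hfin
    have h1 := (f.fiberToSpecResidueField y).finite_preimage_singleton default
    have h2 : Finite (f.fiber y) := Set.finite_univ_iff.1 (h1.subset fun z _ =>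
      show _ = _ from Subsingleton.elim (α := PrimeSpectrum (Y.residueField y)) _ _)
    exact Set.finite_coe_iff.1 ((f.fiberHomeo y).finite_iff.1 h2)
  obtain ⟨U, hsU, hU⟩ := exists_nhd_preimage_le h s G hsub
  exact ⟨U, hsU, restrict_of_le @IsFinite f hU hGf⟩

theorem exists_isClosedImmersion_nhd_fibre [IsProper (f ≫ h)] [IsProper h]
    (hcl : IsClosedImmersion (CohIII.fiberMapOver f (f ≫ h) h rfl s)) :
    ∃ U : S.Opens, s ∈ U ∧ IsClosedImmersion (f ∣_ (h ⁻¹ᵁ U)) := by
  haveI : IsProper f := .of_comp f h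
  let G : Set Y.Opens := {V | IsClosedImmersion (f ∣_ V)}
  have hsub : h ⁻¹' {s} ⊆ (sSup G : Y.Opens) := fun y hy => by
    obtain ⟨l, m, hm⟩ := fiber_isPullback_fiberMapOver f h s y hy
    haveI : IsClosedImmersion (f.fiberToSpecResidueField y) := MorphismProperty.of_isPullback hm hcl
    obtain ⟨V, hyV, hV⟩ := SchMor12.exists_isClosedImmersion_nhd f y
      (isEmpty_or_isIso_of_isClosedImmersion (Field.toIsField _) (f.fiberToSpecResidueField y)) (V := ⊤) trivial
      (IsZariskiLocalAtTarget.restrict (inferInstance : UniversallyClosed f) _)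
    exact Opens.mem_sSup.2 ⟨V, hV, hyV⟩
  obtain ⟨U, hsU, hU⟩ := exists_nhd_preimage_le h s (sSup G) hsub
  exact ⟨U, hsU, restrict_of_le @IsClosedImmersion f hU (restrict_sSup @IsClosedImmersion f G fun V hV => hV)⟩

end relative

/-- A proper unramified morphism injective on geometric points is a closed immersion. -/
theorem isClosedImmersion_of_injective_geometric (f : X ⟶ Y) [IsProper f] [FormallyUnramified f]
    (hinj : ∀ (Ω : Type u) [Field Ω] [IsAlgClosed Ω],
      Function.Injective (fun g : Spec (CommRingCat.of Ω) ⟶ X => g ≫ f)) :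
    IsClosedImmersion f := by
  have : Surjective (pullback.diagonal f) := ⟨fun z => by
    let K := (pullback f f).residueField z
    let Ω := AlgebraicClosure K
    let t : Spec (CommRingCat.of Ω) ⟶ pullback f f :=
      Spec.map (CommRingCat.ofHom (algebraMap K Ω)) ≫ (pullback f f).fromSpecResidueField z
    have he : t ≫ pullback.fst f f = t ≫ pullback.snd f f := hinj Ω (by
      simp only [Category.assoc, pullback.condition])
    have ht : (t ≫ pullback.fst f f) ≫ pullback.diagonal f = t := by
      refine pullback.hom_ext ?_ ?_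
      · rw [Category.assoc, pullback.diagonal_fst, Category.comp_id]
      · rw [Category.assoc, pullback.diagonal_snd, Category.comp_id, he]
    let p : Spec (CommRingCat.of Ω) := Classical.arbitrary _
    refine ⟨(t ≫ pullback.fst f f) p, ?_⟩
    rw [← Scheme.Hom.comp_apply, ht]
    show (pullback f f).fromSpecResidueField z _ = z
    exact Scheme.fromSpecResidueField_apply _ _⟩
  haveI : IsIso (pullback.diagonal f) :=
    (isIso_iff_isOpenImmersion_and_surjective _).mpr ⟨inferInstance, inferInstance⟩
  haveI : Mono f := (pullback.isIso_diagonal_iff f).1 inferInstance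
  exact (IsClosedImmersion.iff_isProper_and_mono f).2 ⟨inferInstance, inferInstance⟩

/-- On a separated integral scheme local rings determine specialisation. -/
theorem not_stalk_le_of_not_specializes [IsIntegral X] [X.IsSeparated] (x y : X)
    (h : ¬ closure ({x} : Set X) ⊆ closure {y}) :
    ¬ Set.range (X.presheaf.stalkSpecializes (genericPoint_specializes x)) ⊆
        Set.range (X.presheaf.stalkSpecializes (genericPoint_specializes y)) := by
  intro hle
  let ιx := X.presheaf.stalkSpecializes (genericPoint_specializes x)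
  let ιy := X.presheaf.stalkSpecializes (genericPoint_specializes y)
  have hy : Function.Injective ιy.hom := IsFractionRing.injective (X.presheaf.stalk y) X.functionField
  choose φ hφ using fun a => hle ⟨a, rfl⟩
  let Φ : X.presheaf.stalk x →+* X.presheaf.stalk y :=
    { toFun := φ
      map_one' := hy (by rw [hφ, map_one, map_one])
      map_mul' := fun a b => hy (by rw [hφ, map_mul, map_mul, hφ, hφ])
      map_zero' := hy (by rw [hφ, map_zero, map_zero])
      map_add' := fun a b => hy (by rw [hφ, map_add, map_add, hφ, hφ]) }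
  have hcomp : CommRingCat.ofHom Φ ≫ ιy = ιx := by
    ext a
    exact hφ a
  haveI : IsDominant (Spec.map ιy) := ⟨PrimeSpectrum.denseRange_comap_iff_ker_le_nilRadical _ |>.mpr
    (((RingHom.injective_iff_ker_eq_bot _).mp hy).le.trans bot_le)⟩
  have heq : Spec.map (CommRingCat.ofHom Φ) ≫ X.fromSpecStalk x = X.fromSpecStalk y := by
    refine ext_of_isDominant (Spec.map ιy) ?_
    rw [← Category.assoc, ← Spec.map_comp, hcomp, Scheme.SpecMap_stalkSpecializes_fromSpecStalk,
      Scheme.SpecMap_stalkSpecializes_fromSpecStalk]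
  apply h
  have hyx : y ⤳ x := by
    have : y ∈ Set.range (X.fromSpecStalk x) := ⟨Spec.map (CommRingCat.ofHom Φ) (IsLocalRing.closedPoint _), by
      rw [← Scheme.Hom.comp_apply, heq, Scheme.fromSpecStalk_closedPoint]⟩
    rwa [Scheme.range_fromSpecStalk] at this
  exact specializes_iff_closure_subset.1 hyx

end Groth.Agent.MorProj
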