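import Groth.Agent.SmoothLib.StalkCrit
import Groth.Agent.AlgSpLib.SourceRing

/-!
# Smooth loci, fibres and base change
-/

set_option autoImplicit false
set_option backward.isDefEq.respectTransparency.types false

universe u

open AlgebraicGeometry CategoryTheory CategoryTheory.Limits TopologicalSpace

namespace Groth.Agent.MorProj

variable {X S : Scheme.{u}} (f : X ⟶ S) [LocallyOfFinitePresentation f]

theorem formallySmooth_stalkMap_pullback {S' P : Scheme.{u}} (g : S' ⟶ S) {a : P ⟶ X} {b : P ⟶ S'}
    [LocallyOfFinitePresentation b] (H : IsPullback a b f g) (p : P) (h : (f.stalkMap (a p)).hom.FormallySmooth) :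
    (b.stalkMap p).hom.FormallySmooth :=
  (SmoothLib.smooth_nhd_iff b p).1 (SmoothLib.smooth_nhd_baseChange f g H p ((SmoothLib.smooth_nhd_iff f _).2 h))

theorem mem_smoothLocus_iff_flat_and_fiber (x : X)
    [LocallyOfFinitePresentation (f.fiberToSpecResidueField (f.base x))] :
    x ∈ f.smoothLocus ↔
      (f.stalkMap x).hom.Flat ∧ f.asFiber x ∈ (f.fiberToSpecResidueField (f.base x)).smoothLocus := by
  have he : f.fiberι (f.base x) (f.asFiber x) = x := Scheme.Hom.fiberι_asFiber f x
  constructor
  · intro h
    refine ⟨SmoothLib.flat_of_formallySmooth_stalkMap f h, ?_⟩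
    exact formallySmooth_stalkMap_pullback f (S.fromSpecResidueField (f.base x)) (IsPullback.of_hasPullback _ _)
      (f.asFiber x) (by
        show (f.stalkMap (f.fiberι (f.base x) (f.asFiber x))).hom.FormallySmooth
        rw [he]; exact h)
  · rintro ⟨h₁, h₂⟩
    have key : ∀ y, y = x → (f.stalkMap y).hom.Flat := by rintro y rfl; exact h₁
    have := SmoothLib.formallySmooth_stalkMap_of_fibre f (f.base x) (f.asFiber x) (key _ he) h₂
    rw [he] at this
    exact this

theorem smoothLocus_baseChange {X' S' : Scheme.{u}} (g : S' ⟶ S) (f' : X' ⟶ S') (g' : X' ⟶ X)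
    (h : IsPullback g' f' f g) [LocallyOfFinitePresentation f'] (hflat : Flat f ∨ Flat g) :
    f'.smoothLocus = g' ⁻¹ᵁ f.smoothLocus := by
  refine Opens.ext (Set.ext fun p => ⟨fun hp => ?_, fun hp => formallySmooth_stalkMap_pullback f g h p hp⟩)
  refine SmoothLib.formallySmooth_stalkMap_of_baseChange f g h p ?_ hp
  rcases hflat with hf | hg
  · exact Flat.stalkMap f _
  · haveI : Flat g' := MorphismProperty.of_isPullback h.flip hg
    have h1 : ((f' ≫ g).stalkMap p).hom.Flat := by
      rw [Scheme.Hom.stalkMap_comp]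
      exact (Flat.stalkMap g (f' p)).comp (SmoothLib.flat_of_formallySmooth_stalkMap f' hp)
    have key : ∀ φ : X' ⟶ S, φ = f' ≫ g → (φ.stalkMap p).hom.Flat := by rintro φ rfl; exact h1
    have h2 := key (g' ≫ f) h.w
    rw [Scheme.Hom.stalkMap_comp] at h2
    exact AlgSpLib.flat_of_comp _ (g'.stalkMap p).hom
      (RingHom.FaithfullyFlat.iff_flat_and_comap_surjective.2 ⟨Flat.stalkMap g' p, by
        letI := (g'.stalkMap p).hom.toAlgebra
        haveI : Module.Flat (X.presheaf.stalk (g' p)) (X'.presheaf.stalk p) := Flat.stalkMap g' p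
        haveI : IsLocalHom (algebraMap (X.presheaf.stalk (g' p)) (X'.presheaf.stalk p)) :=
          inferInstanceAs <| IsLocalHom (g'.stalkMap p).hom
        haveI : Module.FaithfullyFlat (X.presheaf.stalk (g' p)) (X'.presheaf.stalk p) :=
          Module.FaithfullyFlat.of_flat_of_isLocalHom
        exact PrimeSpectrum.comap_surjective_of_faithfullyFlat⟩) h2

end Groth.Agent.MorProj
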