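import Mathlib

/-!
# Standard smooth and standard etale affine neighbourhoods
-/

set_option backward.isDefEq.respectTransparency.types false

universe u

open CategoryTheory AlgebraicGeometry TopologicalSpace Opposite

namespace Groth.Agent.MorProj.EtaleNbhd

variable {X S : Scheme.{u}}

/-- The ring map of `f` on a pair of affines inherits properties from a restriction `W.ι ≫ f`. -/
theorem appLE_of_restrict {P : MorphismProperty Scheme.{u}}
    {Q : ∀ {R T : Type u} [CommRing R] [CommRing T], (R →+* T) → Prop} [HasRingHomProperty P Q]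
    (f : X ⟶ S) {V : S.Opens} (hV : IsAffineOpen V) {U : X.Opens} (hU : IsAffineOpen U)
    {W : X.Opens} (hUW : U ≤ W) (hf : P (W.ι ≫ f)) (e : U ≤ f ⁻¹ᵁ V) :
    Q (f.appLE V U e).hom := by
  have hle : U ≤ W.ι.opensRange := by simpa using hUW
  have hU' : IsAffineOpen (W.ι ⁻¹ᵁ U) := hU.preimage_of_isOpenImmersion W.ι hle
  haveI : IsIso (W.ι.app U) := Scheme.Hom.isIso_app W.ι U hle
  have e' : W.ι ⁻¹ᵁ U ≤ (W.ι ≫ f) ⁻¹ᵁ V := fun z hz ↦ e hz
  have h := HasRingHomProperty.appLE P (W.ι ≫ f) hf ⟨V, hV⟩ ⟨_, hU'⟩ e'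
  have heq : f.appLE V U e ≫ W.ι.app U = (W.ι ≫ f).appLE V (W.ι ⁻¹ᵁ U) e' := by
    rw [Scheme.Hom.app_eq_appLE, Scheme.Hom.appLE_comp_appLE]
  have hQ := (HasRingHomProperty.isLocal_ringHomProperty P).respectsIso
  rw [← heq] at h
  exact (hQ.cancel_right_isIso (f.appLE V U e) (W.ι.app U)).mp h

theorem of_appLE {P : MorphismProperty Scheme.{u}}
    {Q : ∀ {R T : Type u} [CommRing R] [CommRing T], (R →+* T) → Prop} [HasRingHomProperty P Q]
    (f : X ⟶ S) {V : S.Opens} (hV : IsAffineOpen V) {U : X.Opens} (hU : IsAffineOpen U)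
    (e : U ≤ f ⁻¹ᵁ V) (h : Q (f.appLE V U e).hom) : P (f.resLE V U e) := by
  haveI : IsAffine V := hV
  haveI : IsAffine U := hU
  rw [HasRingHomProperty.iff_of_isAffine (P := P)]
  haveI := RingHom.toMorphismProperty_respectsIso_iff.mp
    (HasRingHomProperty.isLocal_ringHomProperty P).respectsIso
  exact (MorphismProperty.arrow_mk_iso_iff (RingHom.toMorphismProperty Q)
      (arrowResLEAppIso f V U e)).mpr h

theorem exists_isStandardSmooth_nhd (f : X ⟶ S) (x : X) {V : S.Opens} (hV : IsAffineOpen V)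
    (hxV : f x ∈ V) {W : X.Opens} (hxW : x ∈ W) [Smooth (W.ι ≫ f)] :
    ∃ (U : X.Opens) (_ : IsAffineOpen U) (_ : x ∈ U) (e : U ≤ f ⁻¹ᵁ V),
        (f.appLE V U e).hom.IsStandardSmooth := by
  obtain ⟨U₀, hU₀, hxU₀, hle⟩ := exists_isAffineOpen_mem_and_subset
    (x := x) (U := W ⊓ f ⁻¹ᵁ V) ⟨hxW, hxV⟩
  have e₀ : U₀ ≤ f ⁻¹ᵁ V := fun z hz ↦ (hle hz).2
  have hsm : (f.appLE V U₀ e₀).hom.Smooth :=
    appLE_of_restrict (P := @Smooth) f hV hU₀ (fun z hz ↦ (hle hz).1) inferInstance e₀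
  obtain ⟨s, hs, hall⟩ := RingHom.smooth_iff_locally_isStandardSmooth.mp hsm
  obtain ⟨g, hgs, hxg⟩ : ∃ g ∈ s, x ∈ X.basicOpen g := by
    have := (IsAffineOpen.iSup_basicOpen_eq_self_iff hU₀ (s := s)).mpr hs
    have hx' : x ∈ ⨆ g : s, X.basicOpen (g : Γ(X, U₀)) := by rw [this]; exact hxU₀
    obtain ⟨g, hg⟩ := Opens.mem_iSup.mp hx'
    exact ⟨g, g.2, hg⟩
  refine ⟨X.basicOpen g, hU₀.basicOpen g, hxg, (X.basicOpen_le g).trans e₀, ?_⟩
  haveI := hU₀.isLocalization_basicOpen g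
  let E : Localization.Away g ≃+* Γ(X, X.basicOpen g) :=
    (IsLocalization.algEquiv (Submonoid.powers g) (Localization.Away g)
      Γ(X, X.basicOpen g)).toRingEquiv
  have := RingHom.isStandardSmooth_respectsIso.1 _ E (hall g hgs)
  convert! this using 1
  rw [← f.appLE_map e₀ (homOfLE (X.basicOpen_le g)).op]
  ext a
  exact (AlgEquiv.commutes (IsLocalization.algEquiv (Submonoid.powers g) (Localization.Away g)
      Γ(X, X.basicOpen g)) _).symm

theorem exists_isStandardEtale_nhd (f : X ⟶ S) (x : X) {V : S.Opens} (hV : IsAffineOpen V)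
    (hxV : f x ∈ V) {W : X.Opens} (hxW : x ∈ W) [Etale (W.ι ≫ f)] :
    ∃ (U : X.Opens) (_ : IsAffineOpen U) (_ : x ∈ U) (e : U ≤ f ⁻¹ᵁ V),
        letI := (f.appLE V U e).hom.toAlgebra
        Algebra.IsStandardEtale Γ(S, V) Γ(X, U) := by
  obtain ⟨U₀, hU₀, hxU₀, hle⟩ := exists_isAffineOpen_mem_and_subset
    (x := x) (U := W ⊓ f ⁻¹ᵁ V) ⟨hxW, hxV⟩
  have e₀ : U₀ ≤ f ⁻¹ᵁ V := fun z hz ↦ (hle hz).2
  have het : (f.appLE V U₀ e₀).hom.Etale :=
    appLE_of_restrict (P := @Etale) f hV hU₀ (fun z hz ↦ (hle hz).1) inferInstance e₀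
  letI := (f.appLE V U₀ e₀).hom.toAlgebra
  haveI : Algebra.Etale Γ(S, V) Γ(X, U₀) := het
  obtain ⟨g, hg, hstd⟩ := Algebra.IsEtaleAt.exists_isStandardEtale (R := Γ(S, V))
    (hU₀.primeIdealOf ⟨x, hxU₀⟩).asIdeal
  have hxg : x ∈ X.basicOpen g := by
    have h1 : hU₀.primeIdealOf ⟨x, hxU₀⟩ ∈ PrimeSpectrum.basicOpen g := hg
    rw [← hU₀.fromSpec_preimage_basicOpen g] at h1
    have h2 : hU₀.fromSpec (hU₀.primeIdealOf ⟨x, hxU₀⟩) ∈ X.basicOpen g := h1
    rwa [hU₀.fromSpec_primeIdealOf ⟨x, hxU₀⟩] at h2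
  refine ⟨X.basicOpen g, hU₀.basicOpen g, hxg, (X.basicOpen_le g).trans e₀, ?_⟩
  haveI := hU₀.isLocalization_basicOpen g
  let E := IsLocalization.algEquiv (Submonoid.powers g) (Localization.Away g) Γ(X, X.basicOpen g)
  letI := (f.appLE V (X.basicOpen g) ((X.basicOpen_le g).trans e₀)).hom.toAlgebra
  haveI := hstd
  refine Algebra.IsStandardEtale.of_equiv (AlgEquiv.ofRingEquiv (f := E.toRingEquiv) fun a ↦ ?_)
  show E (algebraMap Γ(S, V) (Localization.Away g) a) = _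
  rw [IsScalarTower.algebraMap_apply Γ(S, V) Γ(X, U₀) (Localization.Away g), AlgEquiv.commutes]
  show (X.presheaf.map (homOfLE (X.basicOpen_le g)).op).hom ((f.appLE V U₀ e₀).hom a) = _
  rw [← CommRingCat.comp_apply, f.appLE_map]
  rfl

end Groth.Agent.MorProj.EtaleNbhd
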