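import Mathlib

/-!
# Separatedness descends along universally closed surjections
-/

universe u

open CategoryTheory CategoryTheory.Limits AlgebraicGeometry

namespace Groth.Agent.MorProj

theorem isSeparated_of_universallyClosed_surjective {S T Z : Scheme.{u}} (a : T ⟶ Z) (g : Z ⟶ S)
    [UniversallyClosed a] [Surjective a] [IsSeparated (a ≫ g)] : IsSeparated g := by
  let m := pullback.map (a ≫ g) (a ≫ g) g g a a (𝟙 S) (Category.comp_id _) (Category.comp_id _)
  have : UniversallyClosed m :=
    MorphismProperty.pullbackMap (P := @UniversallyClosed) ‹UniversallyClosed a›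
      ‹UniversallyClosed a› rfl rfl
  have e : a ≫ pullback.diagonal g = pullback.diagonal (a ≫ g) ≫ m := by
    apply pullback.hom_ext
    · rw [Category.assoc, Category.assoc, pullback.diagonal_fst, Category.comp_id, pullback.lift_fst]
      exact (pullback.diagonal_fst_assoc (a ≫ g) a).symm
    · rw [Category.assoc, Category.assoc, pullback.diagonal_snd, Category.comp_id, pullback.lift_snd]
      exact (pullback.diagonal_snd_assoc (a ≫ g) a).symm
  have hr : IsClosed (Set.range (pullback.diagonal g)) := by
    rw [show Set.range (pullback.diagonal g) = Set.range (a ≫ pullback.diagonal g) from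
      (a.surjective.range_comp _).symm, e]
    exact (pullback.diagonal (a ≫ g) ≫ m).isClosedMap.isClosed_range
  exact ⟨IsClosedImmersion.of_isPreimmersion _ hr⟩

end Groth.Agent.MorProj
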