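import Groth.Agent.EGA43.InjFibre.Scheme
import Mathlib

/-!
# Open morphisms of schemes are generalizing
-/

universe u

open CategoryTheory AlgebraicGeometry Topology

namespace Groth.Agent.MorProj

theorem generalizingMap_of_isOpenMap {X Y : Scheme.{u}} (f : X ⟶ Y) (hf : IsOpenMap f.base) :
    GeneralizingMap f.base := by
  intro x y hy
  obtain ⟨_, ⟨V, hV, rfl⟩, hxV, -⟩ := Y.isBasis_affineOpens.exists_subset_of_mem_open
    (Set.mem_univ (f.base x)) isOpen_univ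
  obtain ⟨_, ⟨U, hU, rfl⟩, hxU, hUV⟩ := X.isBasis_affineOpens.exists_subset_of_mem_open
    (show x ∈ ((f ⁻¹ᵁ V : X.Opens) : Set X) from hxV) (f ⁻¹ᵁ V).isOpen
  replace hV : IsAffineOpen V := hV
  replace hU : IsAffineOpen U := hU
  have hyV : y ∈ V := hy.mem_open V.isOpen hxV
  let φ := (f.appLE V U hUV).hom
  let p := hU.primeIdealOf ⟨x, hxU⟩
  let q := hV.primeIdealOf ⟨y, hyV⟩
  have hpt : ∀ (z : X) (hz : z ∈ U), (hU.primeIdealOf ⟨z, hz⟩).asIdeal.comap φ =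
      (hV.primeIdealOf ⟨f.base z, hUV hz⟩).asIdeal := fun z hz =>
    congrArg PrimeSpectrum.asIdeal (EGA43.InjFibre.comap_primeIdealOf f hV hU hUV hz)
  let S : Submonoid Γ(X, U) := p.asIdeal.primeCompl ⊔ q.asIdeal.primeCompl.map φ
  have hdisj : Disjoint ((q.asIdeal.map φ : Ideal Γ(X, U)) : Set Γ(X, U)) (S : Set Γ(X, U)) := by
    rw [Set.disjoint_left]
    intro a ha haS
    obtain ⟨g, hg, _, ⟨s, hs, rfl⟩, rfl⟩ := Submonoid.mem_sup.1 haS
    have hxg : x ∈ X.basicOpen g := (EGA43.InjFibre.mem_basicOpen_iff_notMem hU hxU g).2 hg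
    obtain ⟨z, hz, rfl⟩ := hy.mem_open (hf _ (X.basicOpen g).isOpen) ⟨x, hxg, rfl⟩
    have hzU : z ∈ U := X.basicOpen_le g hz
    have h2 := hpt z hzU
    have hle : q.asIdeal.map φ ≤ (hU.primeIdealOf ⟨z, hzU⟩).asIdeal :=
      Ideal.map_le_iff_le_comap.2 h2.ge
    rcases (hU.primeIdealOf ⟨z, hzU⟩).isPrime.mem_or_mem (hle ha) with h | h
    · exact (EGA43.InjFibre.mem_basicOpen_iff_notMem hU hzU g).1 hz h
    · exact hs (h2.le h)
  obtain ⟨P, hP, hle, hPd⟩ := Ideal.exists_le_prime_disjoint _ _ hdisj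
  have hPp : P ≤ p.asIdeal := fun a ha => by
    by_contra h
    exact Set.disjoint_left.1 hPd ha (Submonoid.mem_sup_left (show a ∈ p.asIdeal.primeCompl from h))
  have hPq : P.comap φ = q.asIdeal := le_antisymm (fun b hb => by
    by_contra h
    exact Set.disjoint_left.1 hPd hb (Submonoid.mem_sup_right ⟨b, h, rfl⟩)) (Ideal.map_le_iff_le_comap.1 hle)
  refine ⟨hU.fromSpec ⟨P, hP⟩, ?_, ?_⟩
  · have h : (⟨P, hP⟩ : PrimeSpectrum Γ(X, U)) ⤳ p := (PrimeSpectrum.le_iff_specializes _ _).1 hPp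
    have h' := h.map hU.fromSpec.continuous
    rwa [hU.fromSpec_primeIdealOf] at h'
  · let z : Spec Γ(X, U) := ⟨P, hP⟩
    show (hU.fromSpec ≫ f) z = y
    rw [← hV.SpecMap_appLE_fromSpec f hU hUV]
    show hV.fromSpec (Spec.map (f.appLE V U hUV) z) = y
    rw [show Spec.map (f.appLE V U hUV) z = q from PrimeSpectrum.ext hPq]
    exact hV.fromSpec_primeIdealOf ⟨y, hyV⟩

end Groth.Agent.MorProj
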