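import Groth.Agent.MorProj.Basic
import Groth.Agent.CAlgH.GRingMaximal
import Groth.Agent.CommAlg6.ClosedPoints

/-!
# G-schemes
-/

set_option backward.isDefEq.respectTransparency.types false

universe u

open CategoryTheory AlgebraicGeometry TopologicalSpace

namespace Groth.Agent.MorProj.GScheme

theorem cpl_of_le {R : Type u} [CommRing R] [IsNoetherianRing R] (p q : Ideal R) [hp : p.IsPrime]
    [q.IsPrime] (hpq : p ≤ q)
    (h : CAlg.IsRegularHom (Localization.AtPrime q) (EGA4.Cpl (Localization.AtPrime q))) :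
    CAlg.IsRegularHom (Localization.AtPrime p) (EGA4.Cpl (Localization.AtPrime p)) := by
  let A := Localization.AtPrime q
  haveI : IsNoetherianRing A := IsLocalization.isNoetherianRing q.primeCompl _ inferInstance
  have hdisj : Disjoint (q.primeCompl : Set R) (p : Set R) := by
    rw [Set.disjoint_left]
    exact fun x hx hxp => hx (hpq hxp)
  let p' := p.map (algebraMap R A)
  haveI : p'.IsPrime :=
    IsLocalization.isPrime_of_isPrime_disjoint q.primeCompl A p inferInstance hdisj
  have hp' : p'.comap (algebraMap R A) = p :=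
    IsLocalization.comap_map_of_isPrime_disjoint q.primeCompl A inferInstance hdisj
  haveI : IsLocalization.AtPrime (Localization.AtPrime p') p := by
    have h1 := IsLocalization.isLocalization_isLocalization_atPrime_isLocalization q.primeCompl
      (Localization.AtPrime p') p'
    have hcongr : ∀ (I : Ideal R) [I.IsPrime], I = p →
        IsLocalization.AtPrime (Localization.AtPrime p') I →
        IsLocalization.AtPrime (Localization.AtPrime p') p := fun I _ hI hl => by subst hI; exact hl
    exact hcongr _ hp' h1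
  let e := IsLocalization.algEquiv p.primeCompl (Localization.AtPrime p') (Localization.AtPrime p)
  haveI : IsNoetherianRing (Localization.AtPrime p') :=
    IsLocalization.isNoetherianRing p'.primeCompl _ inferInstance
  exact CAlgH.isRegularHom_cpl_surjective e.toRingEquiv.toRingHom e.surjective
    (CAlgH.isRegularHom_cpl_localization_of_local A h p')

variable {X : Scheme.{u}} [IsLocallyNoetherian X]

theorem cpl_stalk_iff {U : X.Opens} (hU : IsAffineOpen U) (x : X) (hx : x ∈ U) :
    CAlg.IsRegularHom (X.presheaf.stalk x) (EGA4.Cpl (X.presheaf.stalk x)) ↔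
      CAlg.IsRegularHom (Localization.AtPrime (hU.primeIdealOf ⟨x, hx⟩).asIdeal)
        (EGA4.Cpl (Localization.AtPrime (hU.primeIdealOf ⟨x, hx⟩).asIdeal)) := by
  haveI : IsNoetherianRing Γ(X, U) := IsLocallyNoetherian.component_noetherian ⟨U, hU⟩
  letI := X.presheaf.algebra_section_stalk ⟨x, hx⟩
  haveI := hU.isLocalization_stalk ⟨x, hx⟩
  let P := (hU.primeIdealOf ⟨x, hx⟩).asIdeal
  haveI : IsNoetherianRing (Localization.AtPrime P) :=
    IsLocalization.isNoetherianRing P.primeCompl _ inferInstance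
  haveI : IsNoetherianRing (X.presheaf.stalk x) :=
    IsLocalization.isNoetherianRing P.primeCompl _ inferInstance
  let e := IsLocalization.algEquiv P.primeCompl (Localization.AtPrime P) (X.presheaf.stalk x)
  exact ⟨CAlgH.isRegularHom_cpl_surjective e.symm.toRingEquiv.toRingHom e.symm.surjective,
    CAlgH.isRegularHom_cpl_surjective e.toRingEquiv.toRingHom e.surjective⟩

theorem isGRing_of_closedPoints
    (h : ∀ x : X, IsClosed ({x} : Set X) →
      CAlg.IsRegularHom (X.presheaf.stalk x) (EGA4.Cpl (X.presheaf.stalk x)))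
    {U : X.Opens} (hU : IsAffineOpen U) : CAlg.IsGRing Γ(X, U) := by
  haveI : IsNoetherianRing Γ(X, U) := IsLocallyNoetherian.component_noetherian ⟨U, hU⟩
  refine CAlgH.isGRing_of_maximals _ fun m hm ↦ ?_
  let P : PrimeSpectrum Γ(X, U) := ⟨m, hm.isPrime⟩
  let x : X := hU.fromSpec P
  have hxU : x ∈ U := by
    have : x ∈ Set.range hU.fromSpec := ⟨P, rfl⟩
    rwa [hU.range_fromSpec] at this
  have hP : hU.primeIdealOf ⟨x, hxU⟩ = P :=
    hU.fromSpec.isOpenEmbedding.injective (hU.fromSpec_primeIdealOf ⟨x, hxU⟩)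
  obtain ⟨c, hc, hcc⟩ := CommAlg6.exists_isClosed_singleton_mem (X := X)
    (isClosed_closure (s := {x})) ⟨x, subset_closure rfl⟩
  obtain ⟨V, hV, hcV, -⟩ := exists_isAffineOpen_mem_and_subset (x := c) (U := ⊤) trivial
  have hxc : x ⤳ c := specializes_iff_mem_closure.mpr hc
  have hxV : x ∈ V := hxc.mem_open V.2 hcV
  have h1 := (cpl_stalk_iff hV c hcV).mp (h c hcc)
  haveI : IsNoetherianRing Γ(X, V) := IsLocallyNoetherian.component_noetherian ⟨V, hV⟩
  have hle : (hV.primeIdealOf ⟨x, hxV⟩).asIdeal ≤ (hV.primeIdealOf ⟨c, hcV⟩).asIdeal := by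
    refine (PrimeSpectrum.le_iff_specializes _ _).mpr ?_
    refine hV.fromSpec.isOpenEmbedding.toIsEmbedding.toIsInducing.specializes_iff.mp ?_
    rw [hV.fromSpec_primeIdealOf, hV.fromSpec_primeIdealOf]
    exact hxc
  have h2 := (cpl_stalk_iff hU x hxU).mp ((cpl_stalk_iff hV x hxV).mpr (cpl_of_le _ _ hle h1))
  have key : ∀ (Q : PrimeSpectrum Γ(X, U)), Q = P →
      CAlg.IsRegularHom (Localization.AtPrime Q.asIdeal) (EGA4.Cpl (Localization.AtPrime Q.asIdeal)) →
      CAlg.IsRegularHom (Localization.AtPrime m) (EGA4.Cpl (Localization.AtPrime m)) := by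
    rintro Q rfl h; exact h
  exact key _ hP h2

theorem gScheme_iff (X : Scheme.{u}) :
    (∀ x : X, ∃ U : X.Opens, x ∈ U ∧ IsAffineOpen U ∧ CAlg.IsGRing Γ(X, U)) ↔
      IsLocallyNoetherian X ∧ ∀ x : X, IsClosed ({x} : Set X) →
        CAlg.IsRegularHom (X.presheaf.stalk x) (EGA4.Cpl (X.presheaf.stalk x)) := by
  constructor
  · intro h
    have hall : ∀ {U : X.Opens}, IsAffineOpen U → CAlg.IsGRing Γ(X, U) :=
      fun hU ↦ isGRing_of_cover hU h
    haveI : IsLocallyNoetherian X := ⟨fun U ↦ (hall U.2).1⟩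
    refine ⟨inferInstance, fun x _ ↦ ?_⟩
    obtain ⟨U, hU, hxU, -⟩ := exists_isAffineOpen_mem_and_subset (x := x) (U := ⊤) trivial
    exact (cpl_stalk_iff hU x hxU).mpr ((hall hU).2 _)
  · rintro ⟨hN, h⟩ x
    obtain ⟨U, hU, hxU, -⟩ := exists_isAffineOpen_mem_and_subset (x := x) (U := ⊤) trivial
    exact ⟨U, hxU, hU, isGRing_of_closedPoints h hU⟩

end Groth.Agent.MorProj.GScheme
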