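import Mathlib

/-!
# Quasi-compactness of monomorphisms with dense lifting
-/

set_option backward.isDefEq.respectTransparency.types false

universe u

open CategoryTheory CategoryTheory.Limits AlgebraicGeometry TopologicalSpace TensorProduct

namespace Groth.Agent.MorProj.MonoQC

theorem surjective_of_mono {k L : CommRingCat.{u}} (hk : IsField k) (hL : IsField L) (φ : k ⟶ L)
    [Mono (Spec.map φ)] : Function.Surjective φ.hom := by
  intro a
  letI := hk.toField
  letI := φ.hom.toAlgebra
  haveI : Epi φ := ⟨fun {Z} g h e ↦ Spec.map_injective ((cancel_mono (Spec.map φ)).mp (by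
    rw [← Spec.map_comp, ← Spec.map_comp, e]))⟩
  have heq : φ ≫ CommRingCat.ofHom (Algebra.TensorProduct.includeLeftRingHom : L →+* L ⊗[k] L) =
      φ ≫ CommRingCat.ofHom (Algebra.TensorProduct.includeRight : L →ₐ[k] L ⊗[k] L).toRingHom := by
    ext x
    show algebraMap k L x ⊗ₜ[k] (1 : L) = (1 : L) ⊗ₜ[k] algebraMap k L x
    rw [Algebra.algebraMap_eq_smul_one, smul_tmul]
  have h2 : a ⊗ₜ[k] (1 : L) = (1 : L) ⊗ₜ[k] a :=
    congrArg (fun g : L ⟶ CommRingCat.of (L ⊗[k] L) ↦ g a) ((cancel_epi φ).mp heq)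
  haveI : Nontrivial L := hL.toField.toNontrivial
  obtain ⟨ψ, hψ⟩ := LinearMap.exists_leftInverse_of_injective (Algebra.linearMap k L)
    (LinearMap.ker_eq_bot.mpr φ.hom.injective)
  have hψ1 : ψ 1 = 1 := by
    have := LinearMap.congr_fun hψ 1
    simpa using this
  refine ⟨ψ a, ?_⟩
  have h3 := congrArg (TensorProduct.rid k L ∘ ψ.lTensor L) h2
  simp [hψ1, Algebra.smul_def] at h3
  exact h3.symm

variable {X Y : Scheme.{u}}

theorem exists_residue_lift (f : Y ⟶ X) [Mono f] {T : Scheme.{u}} (s : T ⟶ X) (p : T)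
    (hp : s p ∈ Set.range f) :
    ∃ l : Spec (T.residueField p) ⟶ Y, l ≫ f = T.fromSpecResidueField p ≫ s := by
  let g := T.fromSpecResidueField p ≫ s
  obtain ⟨y, hy⟩ := hp
  let x₀ : Spec (T.residueField p) := IsLocalRing.closedPoint (T.residueField p)
  have hx₀ : g x₀ = f y := by
    rw [hy, Scheme.Hom.comp_apply, Scheme.fromSpecResidueField_apply]
  obtain ⟨q, -, -⟩ := Scheme.Pullback.exists_preimage_pullback (f := f) (g := g) y x₀ hx₀.symm
  let h := (pullback f g).fromSpecResidueField q ≫ pullback.snd f g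
  haveI : Mono h := mono_comp _ _
  obtain ⟨φ, hφ⟩ := Spec.map_surjective h
  haveI : Mono (Spec.map φ) := hφ ▸ ‹Mono h›
  haveI : IsIso φ := (ConcreteCategory.isIso_iff_bijective φ).mpr
    ⟨φ.hom.injective, surjective_of_mono (Field.toIsField _) (Field.toIsField _) φ⟩
  haveI : IsIso h := hφ ▸ inferInstance
  refine ⟨inv h ≫ (pullback f g).fromSpecResidueField q ≫ pullback.fst f g, ?_⟩
  have hh : h ≫ g = (pullback f g).fromSpecResidueField q ≫ pullback.fst f g ≫ f := by
    simp [h, pullback.condition]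
  rw [Category.assoc, Category.assoc, ← hh, IsIso.inv_hom_id_assoc]

theorem quasiCompact_of_denseLift [IsLocallyNoetherian X] (f : Y ⟶ X) [Mono f]
    (hc : ∀ (A : Type u) [CommRing A] [IsDomain A] (s : Spec (CommRingCat.of A) ⟶ X)
      (D : Set ↥(Spec (CommRingCat.of A))), Dense D →
        (∀ p ∈ D, ∃ l : Spec ((Spec (CommRingCat.of A)).residueField p) ⟶ Y,
            l ≫ f = (Spec (CommRingCat.of A)).fromSpecResidueField p ≫ s) →
          ∃ U : (Spec (CommRingCat.of A)).Opens, (U : Set ↥(Spec (CommRingCat.of A))).Nonempty ∧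
            ∃ l : (U : Scheme.{u}) ⟶ Y, l ≫ f = U.ι ≫ s) :
    QuasiCompact f := by
  rw [quasiCompact_iff_forall_isAffineOpen]
  intro W hW
  haveI : IsNoetherianRing Γ(X, W) := IsLocallyNoetherian.component_noetherian ⟨W, hW⟩
  let F : PrimeSpectrum Γ(X, W) → X := fun z ↦ hW.fromSpec z
  suffices main : ∀ I : Ideal Γ(X, W), IsCompact (f ⁻¹' (F '' PrimeSpectrum.zeroLocus (I : Set Γ(X, W)))) by
    have := main ⊥
    rw [PrimeSpectrum.zeroLocus_bot, Set.image_univ] at this
    convert! this using 1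
    exact congrArg (f ⁻¹' ·) hW.range_fromSpec.symm
  intro I
  induction I using IsNoetherian.induction with
  | hgt I ih =>
  by_cases htop : I = ⊤
  · subst htop
    simp
  by_cases hprime : Ideal.IsPrime I
  · let A := Γ(X, W) ⧸ I
    let q : Γ(X, W) →+* A := Ideal.Quotient.mk I
    let s : Spec (CommRingCat.of A) ⟶ X := Spec.map (CommRingCat.ofHom q) ≫ hW.fromSpec
    haveI : IsDomain A := Ideal.Quotient.isDomain I
    have hs : ∀ z, s z = F (PrimeSpectrum.comap q z) := fun z ↦ rfl
    have hsmem : ∀ z : Spec (CommRingCat.of A), s z ∈ F '' PrimeSpectrum.zeroLocus (I : Set Γ(X, W)) :=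
      fun z ↦ ⟨_, fun a ha ↦ by
        show q a ∈ z.asIdeal
        rw [Ideal.Quotient.eq_zero_iff_mem.mpr ha]; exact zero_mem _, (hs z).symm⟩
    have hsurj : ∀ w ∈ PrimeSpectrum.zeroLocus (I : Set Γ(X, W)),
        ∃ z : PrimeSpectrum A, PrimeSpectrum.comap q z = w := by
      intro w hw
      have : w ∈ Set.range (PrimeSpectrum.comap q) := by
        rw [range_comap_of_surjective _ q Ideal.Quotient.mk_surjective, Ideal.mk_ker]
        exact hw
      exact this
    -- closed proper subsets of `Spec A` are handled by induction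
    have hclosed : ∀ C : Set (PrimeSpectrum A), IsClosed C → C ≠ Set.univ →
        IsCompact (f ⁻¹' (F '' (PrimeSpectrum.comap q '' C))) := by
      intro C hC hne
      obtain ⟨J, hJ⟩ := (PrimeSpectrum.isClosed_iff_zeroLocus_ideal C).mp hC
      have hI : I < J.comap q := by
        refine lt_of_le_of_ne ?_ fun e ↦ hne ?_
        · intro a ha
          show q a ∈ J
          rw [Ideal.Quotient.eq_zero_iff_mem.mpr ha]; exact zero_mem _
        · have hJ0 : J = ⊥ := eq_bot_iff.mpr fun a ha ↦ by
            obtain ⟨b, rfl⟩ := Ideal.Quotient.mk_surjective a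
            exact Ideal.mem_bot.mpr (Ideal.Quotient.eq_zero_iff_mem.mpr
              (e ▸ (show b ∈ J.comap q from ha) : b ∈ I))
          rw [hJ, hJ0, PrimeSpectrum.zeroLocus_bot]
      convert! ih _ hI using 1
      congr 2
      rw [hJ, image_comap_zeroLocus_eq_zeroLocus_comap _ q Ideal.Quotient.mk_surjective]
    let D : Set (Spec (CommRingCat.of A)) := {z | s z ∈ Set.range f}
    by_cases hD : Dense D
    · obtain ⟨U, hU, l, hl⟩ := hc A s D hD fun p hp ↦ exists_residue_lift f s p hp
      haveI : IsNoetherianRing A := inferInstance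
      haveI : TopologicalSpace.NoetherianSpace (Spec (CommRingCat.of A)) :=
        inferInstanceAs (TopologicalSpace.NoetherianSpace (PrimeSpectrum A))
      haveI : CompactSpace (U : Scheme.{u}) :=
        isCompact_iff_compactSpace.mp (TopologicalSpace.NoetherianSpace.isCompact (U : Set (Spec (CommRingCat.of A))))
      have h1 := hclosed (U : Set (Spec (CommRingCat.of A)))ᶜ U.2.isClosed_compl (fun h ↦ by
        obtain ⟨z, hz⟩ := hU
        exact (Set.eq_univ_iff_forall.mp h z) hz)
      have h2 : IsCompact (Set.range l) := isCompact_range l.continuous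
      have hinj : Function.Injective f := by
        intro a b hab
        obtain ⟨c, hc1, hc2⟩ := Scheme.Pullback.exists_preimage_pullback (f := f) (g := f) a b hab
        rw [← hc1, ← hc2]
        exact congrArg (fun k : pullback f f ⟶ Y ↦ k c) ((cancel_mono f).mp pullback.condition)
      convert! h1.union h2 using 1
      ext y
      simp only [Set.mem_preimage, Set.mem_union, Set.mem_range]
      constructor
      · rintro ⟨w, hw, hwy⟩
        obtain ⟨z, rfl⟩ := hsurj w hw
        by_cases hz : (z : Spec (CommRingCat.of A)) ∈ U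
        · refine Or.inr ⟨⟨z, hz⟩, hinj ?_⟩
          rw [← Scheme.Hom.comp_apply, hl, Scheme.Hom.comp_apply, ← hwy]
          rfl
        · exact Or.inl ⟨_, ⟨z, hz, rfl⟩, hwy⟩
      · rintro (⟨w, ⟨z, -, rfl⟩, hwy⟩ | ⟨u, rfl⟩)
        · rw [← hwy]; exact hsmem z
        · rw [← Scheme.Hom.comp_apply, hl, Scheme.Hom.comp_apply]
          exact hsmem _
    · have h1 := hclosed (closure D) isClosed_closure
        (fun h ↦ hD (dense_iff_closure_eq.mpr h))
      convert! h1 using 1
      ext y
      simp only [Set.mem_preimage]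
      constructor
      · rintro ⟨w, hw, hwy⟩
        obtain ⟨z, rfl⟩ := hsurj w hw
        exact ⟨_, ⟨z, subset_closure (show s z ∈ Set.range f from ⟨y, by rw [← hwy]; exact (hs z).symm ▸ rfl⟩), rfl⟩, hwy⟩
      · rintro ⟨w, ⟨z, -, rfl⟩, hwy⟩
        rw [← hwy]; exact hsmem z
  · obtain ⟨a, b, hab, ha, hb⟩ : ∃ a b, a * b ∈ I ∧ a ∉ I ∧ b ∉ I := by
      rw [Ideal.isPrime_iff] at hprime
      push Not at hprime
      obtain ⟨a, b, h1, h2, h3⟩ := hprime htop
      exact ⟨a, b, h1, h2, h3⟩
    convert! (ih (I ⊔ Ideal.span {a}) (Submodule.lt_sup_iff_notMem.mpr ha)).union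
      (ih (I ⊔ Ideal.span {b}) (Submodule.lt_sup_iff_notMem.mpr hb)) using 1
    rw [← Set.preimage_union, ← Set.image_union]
    congr 2
    ext z
    simp only [PrimeSpectrum.mem_zeroLocus, Set.mem_union, SetLike.coe_subset_coe, sup_le_iff,
      Ideal.span_singleton_le_iff_mem]
    exact ⟨fun h ↦ (z.isPrime.mem_or_mem (h hab)).imp (⟨h, ·⟩) (⟨h, ·⟩),
      fun h ↦ h.elim And.left And.left⟩

end Groth.Agent.MorProj.MonoQC
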