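import Groth.Agent.MorProj.OmegaAffine
import Groth.Agent.EGA43.QcohFP

/-!
# Vanishing of the stalks of the frozen sheaf of differentials
-/

set_option autoImplicit false
set_option linter.unusedSectionVars false
set_option backward.isDefEq.respectTransparency.types false
set_option maxHeartbeats 1000000

universe u

open AlgebraicGeometry CategoryTheory CategoryTheory.Limits TopologicalSpace Opposite

namespace Groth.Agent.MorProj

/-- The stalk of the differentials vanishes iff the morphism is formally unramified on the stalks. -/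
theorem subsingleton_omega_stalk_iff {X S : Scheme.{u}} (f : X ⟶ S) [QuasiSeparated f] (x : X) :
    Subsingleton ((Omega.sheaf f).presheaf.stalk x) ↔ (f.stalkMap x).hom.FormallyUnramified := by
  obtain ⟨V, hV, hxV, -⟩ := exists_isAffineOpen_mem_and_subset (x := f x) (U := (⊤ : S.Opens)) trivial
  obtain ⟨U, hU, hxU, hUV⟩ := exists_isAffineOpen_mem_and_subset (x := x) (U := f ⁻¹ᵁ V) hxV
  haveI := isQCoh_omega f
  let M := Omega.sheaf f
  letI : Algebra Γ(S, V) Γ(X, U) := (f.appLE V U hUV).hom.toAlgebra
  letI : Algebra Γ(X, U) (X.presheaf.stalk x) := (X.presheaf.germ U x hxU).hom.toAlgebra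
  letI : Algebra Γ(S, V) (X.presheaf.stalk x) :=
    (f.appLE V U hUV ≫ X.presheaf.germ U x hxU).hom.toAlgebra
  haveI : IsScalarTower Γ(S, V) Γ(X, U) (X.presheaf.stalk x) := IsScalarTower.of_algebraMap_eq' rfl
  letI : Algebra Γ(S, V) (S.presheaf.stalk (f x)) := (S.presheaf.germ V (f x) hxV).hom.toAlgebra
  letI : Algebra (S.presheaf.stalk (f x)) (X.presheaf.stalk x) := (f.stalkMap x).hom.toAlgebra
  haveI : IsScalarTower Γ(S, V) (S.presheaf.stalk (f x)) (X.presheaf.stalk x) :=
    IsScalarTower.of_algebraMap_eq fun a => by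
      show (f.appLE V U hUV ≫ X.presheaf.germ U x hxU) a = (S.presheaf.germ V (f x) hxV ≫ f.stalkMap x) a
      rw [Scheme.Hom.germ_stalkMap, Scheme.Hom.appLE, Category.assoc, X.presheaf.germ_res]
  haveI := hU.isLocalization_stalk ⟨x, hxU⟩
  haveI := hV.isLocalization_stalk ⟨f x, hxV⟩
  haveI : Algebra.FormallyUnramified Γ(S, V) (S.presheaf.stalk (f x)) :=
    .of_isLocalization (hV.primeIdealOf ⟨f x, hxV⟩).asIdeal.primeCompl
  let p := (hU.primeIdealOf ⟨x, hxU⟩).asIdeal
  -- the stalk of `Omega` as a localisation of the differentials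
  haveI := isIso_toSect f hU hV hUV
  let e : Ω[Γ(X, U)⁄Γ(S, V)] ≃ₗ[Γ(X, U)] Γ(M, U) := (asIso (OmAff.toSect f V U hUV)).toLinearEquiv
  letI := Module.compHom (M.presheaf.stalk x) (X.presheaf.germ U x hxU).hom
  let φ : Γ(M, U) →ₗ[Γ(X, U)] M.presheaf.stalk x :=
    { toFun := fun m => M.presheaf.germ U x hxU m
      map_add' := fun a b => map_add _ a b
      map_smul' := fun r m => by
        exact QCohLoc.germ_smul' M hxU r m }
  haveI : IsLocalizedModule p.primeCompl φ := EGA43.QcohFP.isLocalizedModule_germ M hU hxU φ fun _ => rfl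
  haveI : IsLocalizedModule p.primeCompl (φ ∘ₗ e.toLinearMap) := IsLocalizedModule.of_linearEquiv_right _ _ e
  haveI : IsLocalizedModule p.primeCompl
      (KaehlerDifferential.map Γ(S, V) Γ(S, V) Γ(X, U) (X.presheaf.stalk x)) := inferInstance
  have h1 : Subsingleton (M.presheaf.stalk x) ↔ Algebra.FormallyUnramified Γ(S, V) (X.presheaf.stalk x) := by
    rw [Algebra.formallyUnramified_iff]
    exact (IsLocalizedModule.linearEquiv p.primeCompl (φ ∘ₗ e.toLinearMap)
      (KaehlerDifferential.map Γ(S, V) Γ(S, V) Γ(X, U) (X.presheaf.stalk x))).toEquiv.subsingleton_congr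
  rw [h1]
  exact ⟨fun _ => Algebra.FormallyUnramified.of_restrictScalars Γ(S, V) _ _,
    fun h => haveI : Algebra.FormallyUnramified (S.presheaf.stalk (f x)) (X.presheaf.stalk x) := h
      Algebra.FormallyUnramified.comp Γ(S, V) (S.presheaf.stalk (f x)) (X.presheaf.stalk x)⟩

/-- The stalk criterion in terms of maximal ideals and residue extensions. -/
theorem subsingleton_omega_stalk_iff_residue {X S : Scheme.{u}} (f : X ⟶ S) [LocallyOfFiniteType f]
    [QuasiSeparated f] (x : X) :
    Subsingleton ((Omega.sheaf f).presheaf.stalk x) ↔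
      ((IsLocalRing.maximalIdeal (S.presheaf.stalk (f.base x))).map (f.stalkMap x).hom =
          IsLocalRing.maximalIdeal (X.presheaf.stalk x) ∧
        (f.residueFieldMap x).hom.Finite ∧
        @Algebra.IsSeparable (S.residueField (f.base x)) (X.residueField x) _ _
          (f.residueFieldMap x).hom.toAlgebra) := by
  rw [subsingleton_omega_stalk_iff]
  letI : Algebra (S.presheaf.stalk (f x)) (X.presheaf.stalk x) := (f.stalkMap x).hom.toAlgebra
  haveI : IsLocalHom (algebraMap (S.presheaf.stalk (f x)) (X.presheaf.stalk x)) :=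
    inferInstanceAs <| IsLocalHom (f.stalkMap x).hom
  haveI : Algebra.EssFiniteType (S.presheaf.stalk (f x)) (X.presheaf.stalk x) := by
    rw [← RingHom.essFiniteType_algebraMap, RingHom.algebraMap_toAlgebra]
    exact LocallyOfFiniteType.stalkMap f x
  have he : (f.residueFieldMap x).hom.toAlgebra =
      (inferInstance : Algebra (IsLocalRing.ResidueField (S.presheaf.stalk (f x)))
        (IsLocalRing.ResidueField (X.presheaf.stalk x))) := by
    refine Algebra.algebra_ext _ _ fun z => ?_
    obtain ⟨z, rfl⟩ := IsLocalRing.residue_surjective z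
    rfl
  show Algebra.FormallyUnramified (S.presheaf.stalk (f x)) (X.presheaf.stalk x) ↔ _
  constructor
  · intro hu
    have h1 : Module.Finite (IsLocalRing.ResidueField (S.presheaf.stalk (f x)))
        (IsLocalRing.ResidueField (X.presheaf.stalk x)) := inferInstance
    have h2 : Algebra.IsSeparable (IsLocalRing.ResidueField (S.presheaf.stalk (f x)))
        (IsLocalRing.ResidueField (X.presheaf.stalk x)) := inferInstance
    refine ⟨Algebra.FormallyUnramified.map_maximalIdeal, ?_, ?_⟩
    · show @Module.Finite _ _ _ _ (f.residueFieldMap x).hom.toAlgebra.toModule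
      erw [he]
      exact h1
    · erw [he]
      exact h2
  · rintro ⟨h, -, hs⟩
    erw [he] at hs
    exact @Algebra.FormallyUnramified.of_map_maximalIdeal _ _ _ _ _ _ _ _ _ hs h

end Groth.Agent.MorProj
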